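import Cfsg.Agent.Lib.Chev.TwOut.Fix
import Cfsg.Agent.Lib.KnownB.ChevAutShapeExists

/-!
Up to an inner automorphism, an automorphism of the fixed points fixes the unipotent subgroup and its opposite.
-/

set_option autoImplicit false
set_option linter.style.haveILetI false
set_option maxRecDepth 100000

namespace CfsgLib.Chev.TwOut

open Cfsg.Lie Matrix CfsgLib.Chev CfsgLib.KnownB.ChevField CfsgLib.KnownB.ChevAutThm CfsgLib.Chev.TwSub
open scoped Pointwise

variable {D : ChevalleyDatum} {A : Aux} {F : Type*} [Field F] {h : Std D A} {f : Fold}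
  {τ : Twist F h f} {sgn : ℕ → ℤ} {σ : F →+* F} {d : ℕ} {T : List FState}

theorem sum_sign (g : Good D A) {w : List ℕ} (hw : Letters D w) {s : ℕ} (hs : D.IsPosRoot s)
    (hp : ∀ k < D.rank, A.a s k ≠ 0 → D.IsPosRoot (wf A w (D.simple k))) :
    D.IsPosRoot (wf A w s) := by
  have hlt := wf_lt g hw hs.1
  refine (g.pos_iff _ hlt).2 fun k => ?_
  by_cases hk : k < D.rank
  · rw [simple_eq_sum g (wf_rootMap g hw) hs.1 k hk]
    refine Finset.sum_nonneg fun m hm => ?_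
    have hm := Finset.mem_range.1 hm
    by_cases ha : A.a s m = 0
    · rw [ha, zero_mul]
    · exact mul_nonneg ((g.pos_iff s hs.1).1 hs m) ((g.pos_iff _ (hp m hm ha).1).1 (hp m hm ha) k)
  · rw [g.a_zero _ hlt k (not_lt.1 hk)]

theorem all_neg (g : Good D A) {w : List ℕ} (hw : Letters D w)
    (hn : ∀ i < D.rank, ¬ D.IsPosRoot (wf A w (D.simple i))) {s : ℕ} (hs : D.IsPosRoot s) :
    D.IsNegRoot (wf A w s) := by
  have hlt := wf_lt g hw hs.1
  refine (g.negRoot_iff _ hlt).2 fun k => ?_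
  by_cases hk : k < D.rank
  swap
  · rw [g.a_zero _ hlt k (not_lt.1 hk)]
  rw [simple_eq_sum g (wf_rootMap g hw) hs.1 k hk]
  refine Finset.sum_nonpos fun m hm => ?_
  have hm := Finset.mem_range.1 hm
  have hl := wf_lt g hw (g.simple_lt _ hm)
  exact mul_nonpos_of_nonneg_of_nonpos ((g.pos_iff s hs.1).1 hs _)
    ((g.negRoot_iff _ hl).1 (isNeg_of_not_pos g hl (hn m hm)) k)

/-- a fixed word keeping one fundamental root of an orbit positive keeps the orbit positive -/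
theorem orbit_pos (v : f.Valid D A) (g : Good D A) {l : List ℕ} (hl : ∀ k ∈ l, k < f.num) {j i : ℕ}
    (hj : j < f.num) (hi : i ∈ f.J j) (hp : D.IsPosRoot (wf A (f.flat l) (D.simple i))) {s : ℕ}
    (hs : toNeg D (wf A (f.w j)) s) : D.IsPosRoot (wf A (f.flat l) s) := by
  have hw := v.flat_letters hl
  refine sum_sign g hw hs.1 fun k hk hak => ?_
  have hkJ : k ∈ f.J j := by
    by_contra hkn
    exact hak (((v.w_supp j hj s hs.1.1).1 ⟨hs.1, not_pos_of_isNeg g hs.2⟩).2 k hk hkn)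
  by_contra hneg
  obtain ⟨h1, h2⟩ := Fold.Valid.simple_mem g v hj hi
  exact Fold.Valid.inverts_orbit g v hw (fun s hs => Fold.Valid.flat_comm g v hl hs) hj hkJ hneg h1 h2 hp

theorem V_witness (X : Fam τ sgn σ d T) {j : ℕ} (hj : j < f.num) :
    ∃ x ∈ τ.V (f.w j), x ≠ 1 := by
  obtain ⟨a, ha⟩ := Subgroup.ne_bot_iff_exists_ne_one.1 (X.S.ne j hj)
  exact ⟨a.1, a.2, fun e0 => ha (Subtype.ext e0)⟩

/-- elements normalising the unipotent part lie in the Borel subgroup -/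
theorem mem_borel_of_norm (X : Fam τ sgn σ d T) {y : GL D.Idx F} (hy : y ∈ τ.fix)
    (hc : ∀ u ∈ D.posUnipotent F ⊓ τ.fix, y * u * y⁻¹ ∈ D.posUnipotent F) :
    y ∈ D.borelSubgroup F := by
  have g := h.good
  obtain ⟨u, hu, t, ht, e, he, v, hv, rfl⟩ := τ.fix_decomp X.S.tab hy
  set l := e.word
  have hl := X.S.tab.letters e he
  have hw := τ.valid.flat_letters hl
  rcases Fold.Valid.exists_descent g hw with hid | ⟨i, hi, hneg⟩
  · have hv1 : v = 1 := by
      have := hv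
      rw [τ.V_id hid] at this
      exact this
    rw [hv1, mul_one]
    refine mul_mem (mul_mem (pos_le_borel hu.1) (diag_le_borel ht.1)) (diag_le_borel ?_)
    exact mem_diag_of_id h (nW_mem g hw) (nW_acts g hw) hid
  exfalso
  obtain ⟨j, hj, hij⟩ := τ.valid.cover i hi
  obtain ⟨x, hx, hx1⟩ := V_witness X hj
  set n := nW F g (f.flat l)
  have hxU := (τ.V_le_pos _ hx)
  have hvU := (τ.V_le_pos _ hv)
  have h1 := hc (v⁻¹ * x * v) (mul_mem (mul_mem (inv_mem hvU) hxU) hvU)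
  rw [show u * t * n * v * (v⁻¹ * x * v) * (u * t * n * v)⁻¹ =
    (u * t) * (n * x * n⁻¹) * (u * t)⁻¹ by group] at h1
  have hb : u * t ∈ D.borelSubgroup F := mul_mem (pos_le_borel hu.1) (diag_le_borel ht.1)
  have h2 := borel_conj_pos g (inv_mem hb) h1
  rw [show (u * t)⁻¹ * ((u * t) * (n * x * n⁻¹) * (u * t)⁻¹) * ((u * t)⁻¹)⁻¹ = n * x * n⁻¹ by group] at h2
  have h3 : n * x * n⁻¹ ∈ D.negUnipotent F :=
    conj_UP_le (nW_acts g hw) (fun r hr => hr.1.1) (fun r c hr => xG_mem_negUnipotent g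
      (isNeg_of_not_pos g (wf_lt g hw hr.1.1) (Fold.Valid.inverts_orbit g τ.valid hw
        (fun s hs => Fold.Valid.flat_comm g τ.valid hl hs) hj hij hneg hr.1 (not_pos_of_isNeg g hr.2))) c) hx.1
  have h4 := pos_inf_neg h h2 h3
  rw [conj_eq_one_iff] at h4
  exact hx1 h4

/-- torus elements have order prime to the characteristic -/
theorem diag_p_trivial [Finite F] {p : ℕ} [Fact p.Prime] [CharP F p] {t : GL D.Idx F}
    (g : Good D A) (ht : t ∈ D.diagonalSubgroup F) {k : ℕ} (hk : t ^ p ^ k = 1) : t = 1 := by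
  classical
  haveI := Fintype.ofFinite F
  rw [diagonalSubgroup_eq g] at ht
  obtain ⟨c, rfl⟩ := ht
  have h1 : (tor D A c : GL D.Idx F) ^ (Fintype.card F - 1) = 1 := by
    rw [← map_pow, ← Fintype.card_units, show c ^ Fintype.card Fˣ = 1 from funext fun i => by simp, map_one]
  have hcop : Nat.Coprime (p ^ k) (Fintype.card F - 1) := by
    refine Nat.Coprime.pow_left k ((Nat.Prime.coprime_iff_not_dvd Fact.out).2 fun hd => ?_)
    obtain ⟨n, hp, hc⟩ := FiniteField.card F p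
    have hd2 : p ∣ Fintype.card F := by rw [hc]; exact dvd_pow_self p n.ne_zero
    have h3 := Nat.dvd_sub hd2 hd
    rw [Nat.sub_sub_self Fintype.card_pos] at h3
    exact hp.one_lt.ne' (Nat.dvd_one.1 h3)
  exact orderOf_eq_one_iff.1 (Nat.eq_one_of_dvd_coprimes hcop (orderOf_dvd_of_pow_eq_one hk)
    (orderOf_dvd_of_pow_eq_one h1))

/-- the unipotent part is a Sylow subgroup -/
theorem sylow_U [Finite F] {p : ℕ} [Fact p.Prime] [CharP F p] (X : Fam τ sgn σ d T) :
    ∃ P : Sylow p ↥τ.fix, (P : Subgroup ↥τ.fix) = (D.posUnipotent F).subgroupOf τ.fix := by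
  classical
  haveI := Fintype.ofFinite F
  haveI : Finite (GL D.Idx F) := finite_GL
  have g := h.good
  set U := (D.posUnipotent F).subgroupOf τ.fix
  have hUp : IsPGroup p (D.posUnipotent F) := by
    obtain ⟨n, -, hq⟩ := FiniteField.card F p
    exact IsPGroup.of_card (n := n * (D.nroots / 2)) (by rw [card_posUnipotent h, hq, ← pow_mul])
  have hU : IsPGroup p U := hUp.comap_subtype
  obtain ⟨P, hP⟩ := hU.exists_le_sylow
  refine ⟨P, le_antisymm ?_ hP⟩
  set Q : Subgroup (P : Subgroup ↥τ.fix) := U.subgroupOf P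
  haveI := P.2.isNilpotent
  suffices Q = ⊤ by
    rwa [Subgroup.subgroupOf_eq_top] at this
  by_contra hne
  obtain ⟨x, hxN, hxQ⟩ := SetLike.exists_of_lt
    (Group.normalizerCondition_of_isNilpotent Q (lt_top_iff_ne_top.2 hne))
  refine hxQ (Subgroup.mem_subgroupOf.2 ?_)
  have hxB : ((x : ↥τ.fix) : GL D.Idx F) ∈ D.borelSubgroup F := by
    refine mem_borel_of_norm X (x : ↥τ.fix).2 fun u hu => ?_
    have h1 := (Subgroup.mem_normalizer_iff.1 hxN ⟨⟨u, hu.2⟩, hP (Subgroup.mem_subgroupOf.2 hu.1)⟩).1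
      (Subgroup.mem_subgroupOf.2 (Subgroup.mem_subgroupOf.2 hu.1))
    simpa [Q, U, Subgroup.mem_subgroupOf] using h1
  obtain ⟨u, hu, c, e⟩ := (mem_borel_iff g).1 hxB
  -- a torus element of `p`-power order is trivial
  obtain ⟨k, hk⟩ := P.2 x
  have hk' : ((x : ↥τ.fix) : GL D.Idx F) ^ p ^ k = 1 := by
    rw [← Subgroup.coe_pow, ← Subgroup.coe_pow, hk]; rfl
  have hpow : ∀ n : ℕ, ∃ u' ∈ D.posUnipotent F, (u * tor D A c) ^ n = u' * tor D A c ^ n := by
    intro n
    induction n with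
    | zero => exact ⟨1, one_mem _, by simp⟩
    | succ n ih =>
      obtain ⟨u', hu', e'⟩ := ih
      refine ⟨u' * (tor D A c ^ n * u * (tor D A c ^ n)⁻¹), mul_mem hu'
        (borel_conj_pos g (pow_mem (tor_mem_borel g c) n) hu), ?_⟩
      rw [pow_succ, e', pow_succ]
      group
  obtain ⟨u', hu', e'⟩ := hpow (p ^ k)
  rw [← e, hk'] at e'
  have htd : tor D A c ∈ D.diagonalSubgroup F := by rw [diagonalSubgroup_eq g]; exact ⟨c, rfl⟩
  have h1 : tor D A c ^ p ^ k = 1 := by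
    refine Subgroup.mem_bot.1 ((posUnipotent_inf_diagonal (F := F) h).le (Subgroup.mem_inf.2
      ⟨?_, pow_mem htd _⟩))
    rw [eq_inv_mul_of_mul_eq e'.symm, mul_one]
    exact inv_mem hu'
  have h2 := diag_p_trivial (p := p) g htd h1
  rw [h2, mul_one] at e
  rw [Subgroup.mem_subgroupOf, e]
  exact hu

/-- an automorphism preserving a predicate -/
def Keeps (θ : MulAut ↥τ.fix) (S : Subgroup (GL D.Idx F)) : Prop :=
  ∀ y, (θ y : GL D.Idx F) ∈ S ↔ (y : GL D.Idx F) ∈ S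

/-- **up to an inner automorphism the two unipotent parts are fixed** -/
theorem exists_fix_UV [Finite F] (X : Fam τ sgn σ d T) (θ : MulAut ↥τ.fix) :
    ∃ x : ↥τ.fix, Keeps (MulAut.conj x * θ) (D.posUnipotent F) ∧
      Keeps (MulAut.conj x * θ) (D.negUnipotent F) := by
  classical
  haveI := Fintype.ofFinite F
  obtain ⟨p, hp⟩ := CharP.exists F
  haveI : Fact p.Prime := ⟨CharP.char_is_prime F p⟩
  haveI : Finite (GL D.Idx F) := finite_GL
  have g := h.good
  obtain ⟨P, hP⟩ := sylow_U (p := p) X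
  set Q := P.mapSurjective (f := θ.toMonoidHom) θ.surjective
  obtain ⟨m, hm⟩ := MulAction.exists_smul_eq ↥τ.fix Q P
  set θ₁ := MulAut.conj m * θ with hθ₁
  have hU₁ : Keeps θ₁ (D.posUnipotent F) := by
    intro y
    have e : (P : Subgroup ↥τ.fix).map θ₁.toMonoidHom = (P : Subgroup ↥τ.fix) := by
      conv_rhs => rw [← hm, Sylow.coe_subgroup_smul]
      show _ = MulAut.conj m • ((P : Subgroup ↥τ.fix).map θ.toMonoidHom)
      rw [Subgroup.pointwise_smul_def]
      exact ((P : Subgroup ↥τ.fix).map_map (MulAut.conj m).toMonoidHom θ.toMonoidHom).symm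
    have h1 := Subgroup.mem_map_iff_mem (f := θ₁.toMonoidHom) θ₁.injective
      (K := (P : Subgroup ↥τ.fix)) (x := y)
    rw [e, hP, Subgroup.mem_subgroupOf, Subgroup.mem_subgroupOf] at h1
    exact h1
  obtain ⟨e₀, he₀, htop, -⟩ := X.top
  have hl₀ := X.S.tab.letters e₀ he₀
  have hw₀ := τ.valid.flat_letters hl₀
  set n₀ := nW F g (f.flat e₀.word)
  set N₀ : ↥τ.fix := ⟨n₀, τ.nFlat_fix hl₀⟩
  have hσ₀ := nW_acts (F := F) g hw₀
  have hneg₀ : ∀ r, D.IsPosRoot r → D.IsNegRoot (wf A (f.flat e₀.word) r) := fun r hr => all_neg g hw₀ htop hr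
  have hVmem : ∀ y : ↥τ.fix, (y : GL D.Idx F) ∈ D.negUnipotent F ↔
      ((N₀⁻¹ * y * N₀ : ↥τ.fix) : GL D.Idx F) ∈ D.posUnipotent F := by
    intro y
    rw [← longest_conj g hσ₀ hneg₀, Subgroup.mem_map_equiv, MulAut.conj_symm_apply]
    simp [N₀]
    rfl
  set M := θ₁ N₀
  obtain ⟨u₁, hu₁, t, ht, e, he, v, hv, eM⟩ := τ.fix_decomp X.S.tab M.2
  have hl := X.S.tab.letters e he
  have hw := τ.valid.flat_letters hl
  set n := nW F g (f.flat e.word)
  set b := u₁ * t
  have hb : b ∈ D.borelSubgroup F := mul_mem (pos_le_borel hu₁.1) (diag_le_borel ht.1)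
  have hbf : b ∈ τ.fix := mul_mem hu₁.2 ht.2
  have hvU := Subgroup.mem_inf.1 (τ.V_le_pos _ hv)
  have hall : ∀ i < D.rank, ¬ D.IsPosRoot (wf A (f.flat e.word) (D.simple i)) := by
    intro i hi hpos
    obtain ⟨j, hj, hij⟩ := τ.valid.cover i hi
    obtain ⟨x, hx, hx1⟩ := V_witness X hj
    have hxU := Subgroup.mem_inf.1 (τ.V_le_pos _ hx)
    set w : ↥τ.fix := ⟨v⁻¹ * x * v, mul_mem (mul_mem (inv_mem hvU.2) hxU.2) hvU.2⟩
    have hwU : (w : GL D.Idx F) ∈ D.posUnipotent F := mul_mem (mul_mem (inv_mem hvU.1) hxU.1) hvU.1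
    have hnx : n * x * n⁻¹ ∈ D.posUnipotent F :=
      conj_UP_le (nW_acts g hw) (fun r hr => hr.1.1) (fun r c hr => xG_mem_posUnipotent g
        (orbit_pos τ.valid g hl hj hij hpos hr) c) hx.1
    have hzU : ((M * w * M⁻¹ : ↥τ.fix) : GL D.Idx F) ∈ D.posUnipotent F := by
      rw [Subgroup.coe_mul, Subgroup.coe_mul, Subgroup.coe_inv, eM]
      show b * n * v * (v⁻¹ * x * v) * (b * n * v)⁻¹ ∈ _
      rw [show b * n * v * (v⁻¹ * x * v) * (b * n * v)⁻¹ = b * (n * x * n⁻¹) * b⁻¹ by group]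
      exact borel_conj_pos g hb hnx
    obtain ⟨y, hy⟩ := θ₁.surjective (M * w * M⁻¹)
    have hyU := (hU₁ y).1 (by rw [hy]; exact hzU)
    have hyV : (y : GL D.Idx F) ∈ D.negUnipotent F := by
      rw [hVmem]
      refine (hU₁ _).1 ?_
      rw [map_mul, map_mul, map_inv, hy, show M⁻¹ * (M * w * M⁻¹) * M = w by group]
      exact hwU
    obtain rfl : y = 1 := Subtype.ext (pos_inf_neg h hyU hyV)
    rw [map_one] at hy
    have hw1 : w = 1 := by
      have := hy.symm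
      rwa [mul_inv_eq_one, mul_eq_left] at this
    have h2 := congrArg Subtype.val hw1
    simp only [w, Subgroup.coe_one] at h2
    rw [mul_assoc, inv_mul_eq_one, eq_comm, mul_eq_right] at h2
    exact hx1 h2
  have hUV := longest_conj g (nW_acts (F := F) g hw) fun r hr => all_neg g hw hall hr
  refine ⟨(⟨b, hbf⟩ : ↥τ.fix)⁻¹ * m, fun y => ?_, fun y => ?_⟩
  · rw [map_mul, mul_assoc, ← hθ₁, MulAut.mul_apply, MulAut.conj_apply, inv_inv, Subgroup.coe_mul,
      Subgroup.coe_mul, Subgroup.coe_inv, ← hU₁]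
    refine ⟨fun hy => ?_, fun hy => ?_⟩
    · have := borel_conj_pos g hb hy
      simpa [mul_assoc] using this
    · have := borel_conj_pos g (inv_mem hb) hy
      simpa [mul_assoc] using this
  · rw [map_mul, mul_assoc, ← hθ₁, MulAut.mul_apply, MulAut.conj_apply, inv_inv, Subgroup.coe_mul,
      Subgroup.coe_mul, Subgroup.coe_inv, hVmem, ← hU₁, map_mul, map_mul, map_inv, Subgroup.coe_mul,
      Subgroup.coe_mul, Subgroup.coe_inv]
    show b⁻¹ * (θ₁ y : GL D.Idx F) * b ∈ D.negUnipotent F ↔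
      (M : GL D.Idx F)⁻¹ * (θ₁ y : GL D.Idx F) * (M : GL D.Idx F) ∈ D.posUnipotent F
    rw [eM, ← hUV, Subgroup.mem_map_equiv, MulAut.conj_symm_apply,
      show (b * n * v)⁻¹ * (θ₁ y : GL D.Idx F) * (b * n * v) =
        v⁻¹ * (n⁻¹ * (b⁻¹ * (θ₁ y : GL D.Idx F) * b) * n) * v by group]
    exact ⟨fun hy => mul_mem (mul_mem (inv_mem hvU.1) hy) hvU.1, fun hy => by
      have := mul_mem (mul_mem hvU.1 hy) (inv_mem hvU.1)
      rwa [show v * (v⁻¹ * (n⁻¹ * (b⁻¹ * (θ₁ y : GL D.Idx F) * b) * n) * v) * v⁻¹ =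
        n⁻¹ * (b⁻¹ * (θ₁ y : GL D.Idx F) * b) * n by group] at this⟩

end CfsgLib.Chev.TwOut
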