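import Cfsg.Agent.Lib.Chev.TwOut.LiftDatum
import Cfsg.Agent.Lib.Chev.F42Aut.Keep

/-!
The lifting data of a split twisted group with two orbits, the rank one facts being supplied.
-/

set_option autoImplicit false
set_option maxRecDepth 100000

namespace CfsgLib.Chev.TwOut

open Cfsg.Lie Matrix CfsgLib.Chev CfsgLib.KnownB.ChevField CfsgLib.KnownB.ChevAutThm CfsgLib.Chev.TwSub
open CfsgLib.Schur

variable {D : ChevalleyDatum} {A : Aux} {F : Type*} [Field F] {h : Std D A} {f : Fold}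
  {τ : Twist F h f} {T : List FState}

theorem jl (hnum : f.num = 2) (s : Bool) : jOf s < f.num := by
  rw [hnum]; cases s <;> simp [jOf]

/-- the rank one group of an orbit -/
noncomputable def fL (τ : Twist F h f) (hnum : f.num = 2) (s : Bool) : Subgroup ↥τ.fix :=
  fX τ (jOf s) ⊔ (fX τ (jOf s)).map (MulAut.conj (⟨τ.nJ (jOf s), τ.nJ_fix (jl hnum s)⟩ : ↥τ.fix)).toMonoidHom

variable [Fintype F]

set_option maxHeartbeats 1600000 in
-- the fields of the datum
/-- the lifting data -/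
noncomputable def splitDatum (p : ℕ) [Fact p.Prime] [CharP F p] (S : τ.Split T) (hnum : f.num = 2) {k : ℕ}
    (hk : 0 < k) (hlen : 4 * k ≤ T.length)
    (hbraid : SameOn D (wf A (f.flat (alt (2 * k) false))) (wf A (f.flat (alt (2 * k) true))))
    (hbX : ∀ r, toNeg D (wf A (f.w (jOf true))) r →
      toNeg D (wf A (f.w (jOf true))) (wf A (f.flat (alt (2 * (k - 1) + 1) false)) r))
    (hn : ∀ s, (⟨τ.nJ (jOf s), τ.nJ_fix (jl hnum s)⟩ : ↥τ.fix) ∈ fL τ hnum s)
    (hrank : ∀ s, ∀ u ∈ fX τ (jOf s), u ≠ 1 → ∃ a ∈ fX τ (jOf s), ∃ y ∈ fH τ, ∃ b ∈ fX τ (jOf s),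
      (⟨τ.nJ (jOf s), τ.nJ_fix (jl hnum s)⟩ : ↥τ.fix) * u * (⟨τ.nJ (jOf s), τ.nJ_fix (jl hnum s)⟩ : ↥τ.fix)⁻¹ =
        a * y * ⟨τ.nJ (jOf s), τ.nJ_fix (jl hnum s)⟩ * b)
    (hgen : ∀ y ∈ fH τ, ∃ a ∈ fL τ hnum false ⊓ fH τ, ∃ b ∈ fL τ hnum true ⊓ fH τ, y = a * b)
    (hdisj : Disjoint (fL τ hnum false ⊓ fH τ) (fL τ hnum true ⊓ fH τ)) :
    RankTwo.Datum p ↥τ.fix where
  U := fU τ
  H := fH τ
  X s := fX τ (jOf s)
  n s := ⟨τ.nJ (jOf s), τ.nJ_fix (jl hnum s)⟩
  k := k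
  U_pgroup := by
    obtain ⟨Q, hQ⟩ := F42Aut.sylow_U (p := p) S
    rw [show fU τ = (Q : Subgroup ↥τ.fix) from hQ.symm]
    exact Q.2
  X_le s := fun y hy => (τ.V_le_pos _ hy).1
  H_U y hy u hu := by
    show ((y * u * y⁻¹ : ↥τ.fix) : GL D.Idx F) ∈ D.posUnipotent F
    push_cast
    exact borel_conj_pos h.good ((diag_le_borel : D.diagonalSubgroup F ≤ _) hy) hu
  H_X s y hy u hu := by
    have hy' : (y : GL D.Idx F) ∈ D.diagonalSubgroup F := hy
    rw [diagonalSubgroup_eq h.good] at hy'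
    obtain ⟨c, hc⟩ := hy'
    show ((y * u * y⁻¹ : ↥τ.fix) : GL D.Idx F) ∈ τ.V _
    push_cast
    refine Subgroup.mem_inf.2 ⟨?_, mul_mem (mul_mem y.2 u.2) (inv_mem y.2)⟩
    rw [← hc]
    exact conj_UP_le (acts_tor h.good c) (fun r hr => hr.1.1)
      (fun r t hr => xG_mem_UP h.good (P := toNeg D (wf A (f.w (jOf s)))) hr t) hu.1
  H_opp s y hy u hu := by
    set n : ↥τ.fix := ⟨τ.nJ (jOf s), τ.nJ_fix (jl hnum s)⟩
    have hj := jl hnum s
    have hy' : (y : GL D.Idx F) ∈ D.diagonalSubgroup F := hy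
    have h1 : ((n⁻¹ * y * n : ↥τ.fix) : GL D.Idx F) ∈ D.diagonalSubgroup F := by
      have h2 := conj_diag h.good (τ.nJ_mem_monomial hj) hy'
      have h3 := mul_mem (mul_mem (inv_mem (τ.nJ_sq hj)) h2) (τ.nJ_sq hj)
      convert h3 using 1
      show (τ.nJ (jOf s))⁻¹ * (y : GL D.Idx F) * τ.nJ (jOf s) = _
      group
    rw [diagonalSubgroup_eq h.good] at h1
    obtain ⟨c, hc⟩ := h1
    refine ⟨n⁻¹ * y * n * u * (n⁻¹ * y * n)⁻¹, Subgroup.mem_subgroupOf.2 (Subgroup.mem_inf.2 ⟨?_, ?_⟩), ?_⟩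
    · rw [Subgroup.coe_mul, Subgroup.coe_mul, Subgroup.coe_inv, ← hc]
      exact conj_UP_le (acts_tor h.good c) (fun r hr => hr.1.1)
        (fun r t hr => xG_mem_UP h.good (P := toNeg D (wf A (f.w (jOf s)))) hr t) hu.1
    · exact Subtype.prop _
    · show n * (n⁻¹ * y * n * u * (n⁻¹ * y * n)⁻¹) * n⁻¹ = y * (n * u * n⁻¹) * y⁻¹
      group
  n_mem := hn
  n_sq s := τ.nJ_sq (jl hnum s)
  n_H s y hy := conj_diag h.good (τ.nJ_mem_monomial (jl hnum s)) hy
  split s u hu := by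
    have hj := jl hnum s
    have g := h.good
    set j := jOf s
    have hwlt : ∀ r < D.nroots, wf A (f.w j) r < D.nroots := fun r hr => wf_lt g (τ.valid.letters hj) hr
    have hu' : (u : GL D.Idx F) ∈ UL F g D.posRoots := by rw [UL_posRoots g]; exact hu
    obtain ⟨a, ha, b, hb, e⟩ := pos_split h _ hwlt upList_posRoots hu'
    obtain ⟨a', ha', hma⟩ := τ.maps_UP
      (Q := fun r => D.IsPosRoot r ∧ D.IsPosRoot (wf A (f.w j) r)) (fun r hr => hr.1.1)
      (fun r hr => ⟨τ.valid.r_pos r hr.1, by rw [τ.valid.w_comm j hj r hr.1.1]; exact τ.valid.r_pos _ hr.2⟩) ha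
    obtain ⟨b', hb', hmb⟩ := τ.maps_toNeg (τ.valid.letters hj) (τ.valid.w_comm j hj) hb
    have ee : a * b = a' * b' := Twist.Maps.fun_eq τ (e ▸ u.2) (Twist.Maps.mul τ hma hmb)
    have hm : ∀ x ∈ UP F g (fun r => D.IsPosRoot r ∧ D.IsPosRoot (wf A (f.w j) r)),
        τ.nJ j * x * (τ.nJ j)⁻¹ ∈ D.posUnipotent F := fun x hx =>
      conj_UP_le (τ.nJ_acts hj) (fun r hr => hr.1.1) (fun r t hr => xG_mem_posUnipotent g hr.2 t) hx
    have hm' : ∀ x ∈ UP F g (toNeg D (wf A (f.w j))), τ.nJ j * x * (τ.nJ j)⁻¹ ∈ D.negUnipotent F := fun x hx =>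
      conj_UP_le (τ.nJ_acts hj) (fun r hr => hr.1.1) (fun r t hr => xG_mem_negUnipotent g hr.2 t) hx
    have h1 : a'⁻¹ * a = b' * b⁻¹ := by
      rw [eq_mul_inv_iff_mul_eq, mul_assoc, ee, inv_mul_cancel_left]
    have h2 : τ.nJ j * (a'⁻¹ * a) * (τ.nJ j)⁻¹ = 1 := by
      refine Subgroup.mem_bot.1 ((borel_inf_negUnipotent (F := F) h).le (Subgroup.mem_inf.2
        ⟨pos_le_borel (hm _ (mul_mem (inv_mem ha') ha)), ?_⟩))
      rw [h1]; exact hm' _ (mul_mem hb' (inv_mem hb))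
    have haa : a' = a := inv_mul_eq_one.1 (conj_eq_one_iff.1 h2)
    have hbb : b' = b := by rw [haa, inv_mul_cancel] at h1; exact mul_inv_eq_one.1 h1.symm
    rw [haa] at hma
    rw [hbb] at hmb
    refine ⟨⟨b, hmb⟩, Subgroup.mem_inf.2 ⟨hb, hmb⟩, ⟨a, hma⟩, UP_le (fun r t hr => xG_mem_posUnipotent g hr.1 t) ha,
      hm _ ha, Subtype.ext e⟩
  rankOne := hrank
  H_gen := hgen
  H_disj := hdisj
  U_inf x hx hxU := by
    have hm : (x : GL D.Idx F) ∈ D.monomialSubgroup F := by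
      have hle : Subgroup.closure ((fH τ : Set ↥τ.fix) ∪ Set.range fun s => (⟨τ.nJ (jOf s), τ.nJ_fix (jl hnum s)⟩ : ↥τ.fix)) ≤
          (D.monomialSubgroup F).subgroupOf τ.fix := by
        rw [Subgroup.closure_le]
        rintro y (hy | ⟨s, rfl⟩)
        · exact diag_le_monomial_of_good h.good hy
        · exact τ.nJ_mem_monomial (jl hnum s)
      exact hle hx
    exact Subtype.ext (Subgroup.mem_bot.1 ((posUnipotent_inf_diagonal (F := F) h).le (Subgroup.mem_inf.2
      ⟨hxU, mem_diag_of_borel_monomial h (pos_le_borel hxU) hm⟩)))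
  positive x hx s := by
    have g := h.good
    have hj := jl hnum s
    have hm : (x : GL D.Idx F) ∈ D.monomialSubgroup F := by
      have hle : Subgroup.closure ((fH τ : Set ↥τ.fix) ∪ Set.range fun s => (⟨τ.nJ (jOf s), τ.nJ_fix (jl hnum s)⟩ : ↥τ.fix)) ≤
          (D.monomialSubgroup F).subgroupOf τ.fix := by
        rw [Subgroup.closure_le]
        rintro y (hy | ⟨s, rfl⟩)
        · exact diag_le_monomial_of_good h.good hy
        · exact τ.nJ_mem_monomial (jl hnum s)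
      exact hle hx
    obtain ⟨e, he, c, hc, ex⟩ := τ.fix_monomial S.tab (inv_mem hm) (inv_mem x.2)
    have hc' := (Subgroup.mem_inf.1 hc).1
    rw [diagonalSubgroup_eq g] at hc'
    obtain ⟨cc, hcc⟩ := hc'
    have hl := S.tab.letters e he
    have hA : Acts g (x : GL D.Idx F)⁻¹ (id ∘ wf A (f.flat e.word)) := by
      rw [ex, ← hcc]
      exact (acts_tor g cc).mul (nW_acts g (τ.valid.flat_letters hl))
    obtain ⟨i, hi⟩ := List.exists_mem_of_ne_nil _ (τ.valid.J_ne _ hj)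
    obtain ⟨hi1, -⟩ := Fold.Valid.simple_mem g τ.valid hj hi
    have hi1' := hi1.1
    by_cases hp : D.IsPosRoot (wf A (f.flat e.word) (D.simple i))
    · refine Or.inl fun u hu => ?_
      show ((x⁻¹ * u * x : ↥τ.fix) : GL D.Idx F) ∈ D.posUnipotent F
      push_cast
      have h1 := conj_UP_le (K := D.posUnipotent F) hA (fun r hr => hr.1.1)
        (fun r t hr => xG_mem_posUnipotent g
          (orbit_pos τ.valid g hl hj hi hp hr) t) (hu : _ ∈ τ.V _).1
      rwa [inv_inv] at h1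
    · refine Or.inr fun u hu => ?_
      show ((x⁻¹ * (_ * u * _⁻¹) * x : ↥τ.fix) : GL D.Idx F) ∈ D.posUnipotent F
      push_cast
      have hw := τ.valid.flat_letters hl
      have hA2 : Acts g ((x : GL D.Idx F)⁻¹ * τ.nJ (jOf s))
          ((id ∘ wf A (f.flat e.word)) ∘ wf A (f.w (jOf s))) := hA.mul (τ.nJ_acts hj)
      have h1 := conj_UP_le (K := D.posUnipotent F) hA2 (fun r hr => hr.1.1)
        (fun r t hr => xG_mem_posUnipotent g ?_ t) (hu : _ ∈ τ.V _).1
      · convert h1 using 1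
        rw [Subgroup.coe_subtype]
        group
      -- the image of an inverted root stays positive
      have hlt := wf_lt g (τ.valid.letters hj) hr.1.1
      show D.IsPosRoot (wf A (f.flat e.word) (wf A (f.w (jOf s)) r))
      set q := wf A (f.w (jOf s)) r
      have hq : toNeg D (wf A (f.w (jOf s))) (A.neg q) := by
        have hqn : D.IsPosRoot (A.neg q) := by
          rcases pos_or_pos_neg g hlt with h' | h'
          · exact absurd h' (not_pos_of_isNeg g hr.2)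
          · exact h'
        refine ⟨hqn, ?_⟩
        rw [(wf_rootMap g (τ.valid.letters hj)).map_neg g hlt, τ.valid.w_invol _ hj r hr.1.1]
        exact isNeg_of_not_pos g (g.neg_lt r hr.1.1) fun hh => by
          rcases pos_or_pos_neg g hr.1.1 with h' | h'
          · exact not_pos_neg g h' hh
          · exact not_pos_neg g hr.1 h'
      have hinv := Fold.Valid.inverts_orbit g τ.valid hw
        (fun s hs => Fold.Valid.flat_comm g τ.valid hl hs) hj hi hp hq.1 (not_pos_of_isNeg g hq.2)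
      rw [(wf_rootMap g hw).map_neg g hlt] at hinv
      rcases pos_or_pos_neg g (wf_lt g hw hlt) with h' | h'
      · exact h'
      · exact absurd h' hinv
  k_pos := hk
  braid_H := by
    rw [fH, Subgroup.mem_subgroupOf]
    push_cast
    have g := h.good
    have e1 : (τ.nJ (jOf false) * τ.nJ (jOf true)) ^ k = nW F g (f.flat (alt (2 * k) false)) :=
      (nW_alt_pow τ false k).symm
    have e2 : (τ.nJ (jOf true) * τ.nJ (jOf false)) ^ k = nW F g (f.flat (alt (2 * k) true)) :=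
      (nW_alt_pow τ true k).symm
    rw [e1, e2]
    have hl : ∀ s, Letters D (f.flat (alt (2 * k) s)) := fun s =>
      τ.valid.flat_letters (alt_lt _ s hnum.ge)
    exact diag_of_sameOn h (nW_mem g (hl _)) (nW_mem g (hl _)) (nW_acts g (hl _)) (nW_acts g (hl _)) hbraid
  braid_X u hu := by
    have g := h.good
    have hl : ∀ j ∈ alt (2 * (k - 1) + 1) false, j < f.num := alt_lt _ false hnum.ge
    rw [fX, Subgroup.mem_subgroupOf]
    push_cast
    have e : (τ.nJ (jOf false) * τ.nJ (jOf true)) ^ (k - 1) * τ.nJ (jOf false) =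
        nW F g (f.flat (alt (2 * (k - 1) + 1) false)) := (nW_alt_odd τ false (k - 1)).symm
    rw [e]
    refine Subgroup.mem_inf.2 ⟨?_, mul_mem (mul_mem (τ.nFlat_fix hl) u.2) (inv_mem (τ.nFlat_fix hl))⟩
    exact conj_UP_le (nW_acts g (τ.valid.flat_letters hl)) (fun r hr => hr.1.1)
      (fun r v hr => xG_mem_UP g (hbX r hr) v) (Subgroup.mem_inf.1 (hu : _ ∈ τ.V _)).1
  index := by
    classical
    haveI : Finite (GL D.Idx F) := finite_GL
    have g := h.good
    set NN := Subgroup.closure ((fH τ : Set ↥τ.fix) ∪ Set.range fun s => (⟨τ.nJ (jOf s), τ.nJ_fix (jl hnum s)⟩ : ↥τ.fix))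
    have hmem : ∀ e ∈ T, ∀ hw : nW F g (f.flat e.word) ∈ τ.fix,
        (⟨_, hw⟩ : ↥τ.fix) ∈ NN := by
      intro e he hw
      have h1 := τ.nFlat_mem_closure (S.tab.letters e he)
      have h2 : Subgroup.closure {y | ∃ j < f.num, y = τ.nJ j} ≤ NN.map τ.fix.subtype := by
        rw [Subgroup.closure_le]
        rintro y ⟨j, hj, rfl⟩
        rw [hnum] at hj
        obtain ⟨s, rfl⟩ : ∃ s, jOf s = j := by
          rcases j with _ | _ | j
          · exact ⟨false, rfl⟩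
          · exact ⟨true, rfl⟩
          · omega
        exact ⟨⟨τ.nJ (jOf s), τ.nJ_fix (jl hnum s)⟩, Subgroup.subset_closure (Or.inr ⟨s, rfl⟩), rfl⟩
      obtain ⟨y, hy, ey⟩ := h2 h1
      rwa [show (⟨_, hw⟩ : ↥τ.fix) = y from Subtype.ext ey.symm]
    refine le_trans hlen ?_
    let F0 : {e // e ∈ T} → ↥NN ⧸ (fH τ).subgroupOf NN := fun e =>
      QuotientGroup.mk ⟨⟨_, τ.nFlat_fix (S.tab.letters e.1 e.2)⟩, hmem e.1 e.2 _⟩
    have hinj : Function.Injective F0 := by
      intro a b e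
      have e' := QuotientGroup.eq.1 e
      rw [Subgroup.mem_subgroupOf] at e'
      have h1 : (nW F g (f.flat a.1.word))⁻¹ * nW F g (f.flat b.1.word) ∈ D.diagonalSubgroup F :=
        e'
      rw [diagonalSubgroup_eq g] at h1
      obtain ⟨c, hc⟩ := h1
      have e1 : nW F g (f.flat b.1.word) = nW F g (f.flat a.1.word) * tor D A c := by rw [hc]; group
      have hb := nW_acts (F := F) g (τ.valid.flat_letters (S.tab.letters b.1 b.2))
      rw [e1] at hb
      exact Subtype.ext (S.tab.distinct _ a.2 _ b.2 fun r hr =>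
        ((nW_acts g (τ.valid.flat_letters (S.tab.letters a.1 a.2))).mul (acts_tor g c)).unique hb hr)
    have h3 := Nat.card_le_card_of_injective F0 hinj
    rw [← List.toFinset_card_of_nodup S.tab.nodup]
    refine le_trans (le_of_eq ?_) h3
    rw [← Nat.card_eq_finsetCard]
    exact Nat.card_congr (Equiv.subtypeEquivRight fun e => List.mem_toFinset)
  gen := by
    rw [eq_top_iff]
    rintro ⟨y, hy⟩ -
    obtain ⟨u, hu, t, ht, e, he, v, hv, ey⟩ := τ.fix_decomp S.tab hy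
    have hm := τ.nFlat_fix (S.tab.letters e he)
    rw [show (⟨y, hy⟩ : ↥τ.fix) = ⟨u, hu.2⟩ * ⟨t, ht.2⟩ * ⟨_, hm⟩ * ⟨v, hv.2⟩ from Subtype.ext ey]
    refine mul_mem (mul_mem (mul_mem (Subgroup.mem_sup_left hu.1)
      (Subgroup.mem_sup_right (Subgroup.subset_closure (Or.inl ht.1)))) (Subgroup.mem_sup_right ?_))
      (Subgroup.mem_sup_left (τ.V_le_pos _ hv).1)
    have h1 := τ.nFlat_mem_closure (S.tab.letters e he)
    have h2 : Subgroup.closure {y | ∃ j < f.num, y = τ.nJ j} ≤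
        (Subgroup.closure ((fH τ : Set ↥τ.fix) ∪ Set.range fun s =>
          (⟨τ.nJ (jOf s), τ.nJ_fix (jl hnum s)⟩ : ↥τ.fix))).map τ.fix.subtype := by
      rw [Subgroup.closure_le]
      rintro y ⟨j, hj, rfl⟩
      rw [hnum] at hj
      obtain ⟨s, rfl⟩ : ∃ s, jOf s = j := by
        rcases j with _ | _ | j
        · exact ⟨false, rfl⟩
        · exact ⟨true, rfl⟩
        · omega
      exact ⟨⟨τ.nJ (jOf s), τ.nJ_fix (jl hnum s)⟩, Subgroup.subset_closure (Or.inr ⟨s, rfl⟩), rfl⟩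
    obtain ⟨y', hy', ey'⟩ := h2 h1
    rwa [show (⟨_, hm⟩ : ↥τ.fix) = y' from Subtype.ext ey'.symm]

end CfsgLib.Chev.TwOut
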