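import Cfsg.Agent.Lib.Chev.TwOut.Shape

/-!
The parameter maps of a shape: reciprocity in rank one and the torus relations between two nodes.
-/

set_option autoImplicit false
set_option maxRecDepth 100000

namespace CfsgLib.Chev.TwOut

open Cfsg.Lie Matrix CfsgLib.Chev CfsgLib.KnownB.ChevField CfsgLib.KnownB.ChevAutThm CfsgLib.Chev.TwSub

variable {D : ChevalleyDatum} {A : Aux} {F : Type*} [Field F] {h : Std D A} {f : Fold}
  {τ : Twist F h f} {sgn : ℕ → ℤ} {σ : F →+* F} {d : ℕ} {T : List FState}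
  {X : Fam τ sgn σ d T} {θ : MulAut ↥τ.fix} {a a' : Fin f.num → F → F}

theorem hvec_mul (σ : F →+* F) : ∀ (J : List ℕ) (u v : Fˣ),
    hvec D σ J (u * v) = hvec D σ J u * hvec D σ J v
  | [], _, _ => (mul_one _).symm
  | i :: J, u, v => by
    simp only [hvec, map_mul, hvec_mul σ J]
    split
    · rw [Pi.mulSingle_mul]; exact mul_mul_mul_comm _ _ _ _
    · simp

theorem hvec_one (σ : F →+* F) : ∀ (J : List ℕ), hvec D σ J (1 : Fˣ) = 1
  | [] => rfl
  | i :: J => by simp [hvec, hvec_one σ J]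

theorem N_neg (h : Std D A) {J : List ℕ} (hs : sep D A J = true) (t : F) :
    N h.good σ J (-t) = (N h.good σ J t)⁻¹ := by
  rw [N_eq h hs, N_eq h hs, _root_.mul_inv_rev, _root_.mul_inv_rev, W_inv h (Or.inl rfl) hs,
    W_inv h (Or.inr rfl) hs, inv_neg, mul_assoc]

/-- a fixed torus element has characters closed under the orbit -/
theorem chi_dom (G : Graph τ sgn σ d) {c : Fin D.rank → Fˣ} (hc : tor D A c ∈ τ.fix) :
    ∀ (i : ℕ) (J : List ℕ) (z : ℕ), (i :: J).map f.p = J ++ [z] →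
      (∀ k ∈ i :: J, k < D.rank ∧ sgn (D.simple k) = 1) →
      σ^[J.length + 1] (chi D A c (D.simple i) : F) = chi D A c (D.simple z)
  | i, [], z, e, hJ => by
    obtain ⟨hi, hs⟩ := hJ i List.mem_cons_self
    have h1 := tor_step G hc (h.good.simple_lt i hi) hs
    rw [τ.valid.r_simple i hi, show f.p i = z by simpa using e] at h1
    simpa using h1.symm
  | i, k :: J, z, e, hJ => by
    rw [List.map_cons, List.cons_append] at e
    obtain ⟨e1, e2⟩ := List.cons.inj e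
    obtain ⟨hi, hs⟩ := hJ i List.mem_cons_self
    have h1 := tor_step G hc (h.good.simple_lt i hi) hs
    rw [τ.valid.r_simple i hi, e1] at h1
    rw [Function.iterate_succ_apply, ← h1]
    exact chi_dom G hc k J z e2 fun m hm => hJ m (List.mem_cons_of_mem _ hm)

/-- the head of an orbit -/
def hd (f : Fold) (j : ℕ) : ℕ := (f.J j).headI

theorem hd_mem (X : Fam τ sgn σ d T) {j : ℕ} (hj : j < f.num) :
    ∃ J, f.J j = hd f j :: J ∧ sep D A (hd f j :: J) = true ∧ (hd f j :: J).map f.p = J ++ [hd f j] ∧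
      hd f j < D.rank ∧ ∀ P, Kind D A P → ∀ k ∈ hd f j :: J, k < D.rank ∧ sgn (P k) = 1 := by
  obtain ⟨i, J, hJ, hs, hcyc, hsgn⟩ := orbChk_cons (X.orb j hj)
  have e : hd f j = i := by rw [hd, hJ]; rfl
  rw [e]
  exact ⟨J, hJ, hs, hcyc, sep_lt hs i List.mem_cons_self, fun P hP k hk => ⟨sep_lt hs k hk, hsgn P hP k hk⟩⟩

theorem tor_conj_W (X : Fam τ sgn σ d T) {c : Fin D.rank → Fˣ} (hc : tor D A c ∈ τ.fix) {j : ℕ}
    (hj : j < f.num) {P : ℕ → ℕ} (hP : Kind D A P) (t : F) :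
    tor D A c * W h.good σ P (f.J j) t * (tor D A c)⁻¹ =
      W h.good σ P (f.J j) ((chi D A c (P (hd f j)) : F) * t) := by
  obtain ⟨J, hJ, -, hcyc, -, hk⟩ := hd_mem X hj
  rw [hJ]
  exact tor_W X.G hc hP _ J _ t hcyc (hk P hP)

theorem chi_dom_hd (X : Fam τ sgn σ d T) {c : Fin D.rank → Fˣ} (hc : tor D A c ∈ τ.fix) {j : ℕ}
    (hj : j < f.num) : Dom σ (f.J j) (chi D A c (D.simple (hd f j)) : F) := by
  obtain ⟨J, hJ, -, hcyc, -, hk⟩ := hd_mem X hj
  rw [hJ]
  exact chi_dom X.G hc _ J _ hcyc (hk _ (Or.inl rfl))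

section

variable (hS : Shape X θ a a')
include hS

theorem Shape.add (j : Fin f.num) {t u : F} (ht : Dom σ (f.J j) t) (hu : Dom σ (f.J j) u) :
    a j (t + u) = a j t + a j u := by
  obtain ⟨J, hJ, hs, -, -, -⟩ := hd_mem X j.isLt
  refine wS_inj X (Or.inl rfl) j ?_
  have hW : W h.good σ D.simple (f.J j) (a j t) * W h.good σ D.simple (f.J j) (a j u) =
      W h.good σ D.simple (f.J j) (a j t + a j u) := W_add h (Or.inl rfl) (hJ ▸ hs) _ _
  rw [← hW, ← (hS.pos j (t + u) (ht.add hu)).2, ← (hS.pos j t ht).2, ← (hS.pos j u hu).2,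
    ← Subgroup.coe_mul, ← map_mul]
  congr 2
  exact Subtype.ext (W_add h (Or.inl rfl) (hJ ▸ hs) t u).symm

theorem Shape.zero (j : Fin f.num) : a j 0 = 0 := by
  simpa using hS.add j (Dom.zero (σ := σ) (f.J j)) (Dom.zero _)

theorem Shape.map_neg (j : Fin f.num) {t : F} (ht : Dom σ (f.J j) t) : a j (-t) = -a j t := by
  have := hS.add j ht.neg ht
  rw [neg_add_cancel, hS.zero] at this
  linear_combination -this

theorem Shape.inj (j : Fin f.num) {t u : F} (ht : Dom σ (f.J j) t) (hu : Dom σ (f.J j) u)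
    (e : a j t = a j u) : t = u := by
  have h1 : θ (wS X (Or.inl rfl) j ht) = θ (wS X (Or.inl rfl) j hu) :=
    Subtype.ext (by rw [(hS.pos j t ht).2, (hS.pos j u hu).2, e])
  exact wS_inj X (Or.inl rfl) j (congrArg Subtype.val (θ.injective h1))

theorem Shape.inj' (j : Fin f.num) {t u : F} (ht : Dom σ (f.J j) t) (hu : Dom σ (f.J j) u)
    (e : a' j t = a' j u) : t = u := by
  have h1 : θ (wS X (Or.inr rfl) j ht) = θ (wS X (Or.inr rfl) j hu) :=
    Subtype.ext (by rw [(hS.neg j t ht).2, (hS.neg j u hu).2, e])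
  exact wS_inj X (Or.inr rfl) j (congrArg Subtype.val (θ.injective h1))

theorem Shape.ne (j : Fin f.num) {t : F} (ht : Dom σ (f.J j) t) (h0 : t ≠ 0) : a j t ≠ 0 :=
  fun e => h0 (hS.inj j ht (Dom.zero _) (e.trans (hS.zero j).symm))

/-- the rank one relation -/
theorem Shape.rel (j : Fin f.num) {t : F} (ht : Dom σ (f.J j) t) (h0 : t ≠ 0) :
    a' j (-t⁻¹) = -(a j t)⁻¹ := by
  have g := h.good
  obtain ⟨J, hJ, hs, -, -, -⟩ := hd_mem X j.isLt
  have hsj : sep D A (f.J j) = true := hJ ▸ hs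
  set b := a' j (-t⁻¹)
  have hb : b ≠ 0 := by
    intro e
    have h1 : a' j 0 = 0 := by
      obtain ⟨-, e1⟩ := hS.neg j 0 (Dom.zero _)
      rw [show wS X (Or.inr rfl) j (Dom.zero (σ := σ) (f.J j)) = 1 from Subtype.ext (W_zero g _ _), map_one,
        Subgroup.coe_one, ← W_zero g (negS D A) (f.J j)] at e1
      exact (wS_inj X (Or.inr rfl) j e1).symm
    exact neg_ne_zero.2 (inv_ne_zero h0) (hS.inj' j ht.inv.neg (Dom.zero _) (e.trans h1.symm))
  set c := -b⁻¹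
  have hc : c ≠ 0 := by simp [c, hb]
  set z : ↥τ.fix := wS X (Or.inl rfl) j ht * wS X (Or.inr rfl) j ht.inv.neg * wS X (Or.inl rfl) j ht
  have hz : (z : GL D.Idx F) = N g σ (f.J j) t := (N_eq h hsj t).symm
  set W1 := W g σ D.simple (f.J j)
  have hadd : ∀ x y, W1 x * W1 y = W1 (x + y) := W_add h (Or.inl rfl) hsj
  have hφz : (θ z : GL D.Idx F) = W1 (a j t - c) * N g σ (f.J j) c * W1 (a j t - c) := by
    rw [map_mul, map_mul, Subgroup.coe_mul, Subgroup.coe_mul, (hS.pos j t ht).2,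
      (hS.neg j _ ht.inv.neg).2, N_eq h hsj, show -c⁻¹ = b by simp [c]]
    show W1 (a j t) * _ * W1 (a j t) = W1 (a j t - c) * (W1 c * _ * W1 c) * W1 (a j t - c)
    rw [← mul_assoc, ← mul_assoc, hadd, sub_add_cancel, mul_assoc (W1 (a j t) * _), hadd, add_sub_cancel]
  have hw : Dom σ (f.J j) (-((t ^ 2)⁻¹ * 1)) := by
    rw [sq]; exact ((ht.mul ht).inv.mul (Dom.one _)).neg
  have h1 : (θ (z * wS X (Or.inl rfl) j (Dom.one (σ := σ) (f.J j)) * z⁻¹) : GL D.Idx F) =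
      W g σ (negS D A) (f.J j) (a' j (-((t ^ 2)⁻¹ * 1))) := by
    rw [← (hS.neg j _ hw).2]
    congr 2
    refine Subtype.ext ?_
    rw [Subgroup.coe_mul, Subgroup.coe_mul, Subgroup.coe_inv, hz]
    exact N_conj h hsj h0 1
  rw [map_mul, map_mul, map_inv, Subgroup.coe_mul, Subgroup.coe_mul, Subgroup.coe_inv, hφz,
    (hS.pos j 1 (Dom.one _)).2] at h1
  have hne := hS.ne j (Dom.one _) one_ne_zero
  set d := a j t - c
  set u := a j 1
  have hmid : W1 d * N g σ (f.J j) c * W1 d * W1 u * (W1 d * N g σ (f.J j) c * W1 d)⁻¹ =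
      W1 d * W g σ (negS D A) (f.J j) (-((c ^ 2)⁻¹ * u)) * (W1 d)⁻¹ := by
    rw [← N_conj h hsj hc u]
    show _ = W1 d * (N g σ (f.J j) c * W1 u * _) * (W1 d)⁻¹
    have hcm : W1 d * W1 u = W1 u * W1 d := by rw [hadd, hadd, add_comm]
    calc W1 d * N g σ (f.J j) c * W1 d * W1 u * (W1 d * N g σ (f.J j) c * W1 d)⁻¹
        = W1 d * N g σ (f.J j) c * (W1 d * W1 u) * (W1 d)⁻¹ * (N g σ (f.J j) c)⁻¹ * (W1 d)⁻¹ := by group
      _ = _ := by rw [hcm]; group
  rw [hmid, mul_inv_eq_iff_eq_mul] at h1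
  have hd := opp_trivial (σ := σ) h (i := hd f j) (J := J) hs
    (neg_ne_zero.2 (mul_ne_zero (inv_ne_zero (pow_ne_zero _ hc)) hne)) (by simpa only [W1, hJ] using h1)
  rw [show a j t = c by linear_combination hd]
  simp [c]

theorem Shape.map_N (j : Fin f.num) {t : F} (ht : Dom σ (f.J j) t) (h0 : t ≠ 0)
    {hm : N h.good σ (f.J j) t ∈ τ.fix} :
    (θ ⟨N h.good σ (f.J j) t, hm⟩ : GL D.Idx F) = N h.good σ (f.J j) (a j t) := by
  obtain ⟨J, hJ, hs, -, -, -⟩ := hd_mem X j.isLt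
  have hsj : sep D A (f.J j) = true := hJ ▸ hs
  have e : (⟨N h.good σ (f.J j) t, hm⟩ : ↥τ.fix) =
      wS X (Or.inl rfl) j ht * wS X (Or.inr rfl) j ht.inv.neg * wS X (Or.inl rfl) j ht :=
    Subtype.ext (N_eq h hsj t)
  rw [e, map_mul, map_mul, Subgroup.coe_mul, Subgroup.coe_mul, (hS.pos j t ht).2,
    (hS.neg j _ ht.inv.neg).2, hS.rel j ht h0, N_eq h hsj]

/-- the conjugation by a monomial -/
theorem Shape.conj_rel (j : Fin f.num) {t u : F} (ht : Dom σ (f.J j) t) (h0 : t ≠ 0)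
    (hu : Dom σ (f.J j) u) : a' j (-((t ^ 2)⁻¹ * u)) = -((a j t ^ 2)⁻¹ * a j u) := by
  obtain ⟨J, hJ, hs, -, -, -⟩ := hd_mem X j.isLt
  have hsj : sep D A (f.J j) = true := hJ ▸ hs
  have hw : Dom σ (f.J j) (-((t ^ 2)⁻¹ * u)) := by rw [sq]; exact ((ht.mul ht).inv.mul hu).neg
  set z : ↥τ.fix := ⟨N h.good σ (f.J j) t, N_fix X.G (X.orb j j.isLt) ht⟩
  have h1 : z * wS X (Or.inl rfl) j hu * z⁻¹ = wS X (Or.inr rfl) j hw :=
    Subtype.ext (N_conj h hsj h0 u)
  have h2 := congrArg (fun y => (θ y : GL D.Idx F)) h1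
  simp only [map_mul, map_inv, Subgroup.coe_mul, Subgroup.coe_inv] at h2
  rw [hS.map_N j ht h0, (hS.pos j u hu).2, (hS.neg j _ hw).2, N_conj h hsj (hS.ne j ht h0)] at h2
  exact (wS_inj X (Or.inr rfl) j h2).symm

theorem Shape.neg_eq (j : Fin f.num) {u : F} (hu : Dom σ (f.J j) u) :
    a' j u = a j u * (a j 1 ^ 2)⁻¹ := by
  have := hS.conj_rel j (Dom.one _) one_ne_zero hu.neg
  rw [one_pow, inv_one, one_mul, neg_neg, hS.map_neg j hu] at this
  rw [this]; ring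

theorem Shape.sq_mul (j : Fin f.num) {t u : F} (ht : Dom σ (f.J j) t) (hu : Dom σ (f.J j) u) :
    a j (t * t * u) * a j 1 ^ 2 = a j t ^ 2 * a j u := by
  rcases eq_or_ne t 0 with rfl | h0
  · simp [hS.zero]
  have hw : Dom σ (f.J j) (t * t * u) := (ht.mul ht).mul hu
  have h1 := hS.conj_rel j ht h0 hw
  rw [show -((t ^ 2)⁻¹ * (t * t * u)) = -u by field_simp, hS.neg_eq j hu.neg, hS.map_neg j hu] at h1
  have n1 := hS.ne j ht h0
  have n2 := hS.ne j (Dom.one (σ := σ) (f.J j)) one_ne_zero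
  field_simp at h1
  rw [pow_two t] at h1
  linear_combination h1

/-- a full orbit gives a field automorphism -/
theorem Shape.full_aut [Finite F] (j : Fin f.num) (hfull : ∀ t, Dom σ (f.J j) t) :
    ∃ φ : F ≃+* F, ∀ t, a j t = a j 1 * φ t := by
  have n1 := hS.ne j (Dom.one (σ := σ) (f.J j)) one_ne_zero
  obtain ⟨φ, hφ⟩ := exists_ringEquiv (s := fun t => a j t / a j 1)
    (fun t u => by simp only [hS.add j (hfull t) (hfull u), add_div]) (div_self n1)
    (fun t u e => hS.inj j (hfull t) (hfull u) ((div_left_inj' n1).1 e)) (fun t u => by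
      have := hS.sq_mul j (hfull t) (hfull u)
      field_simp
      rw [pow_two t]
      linear_combination this)
  exact ⟨φ, fun t => by rw [hφ, mul_div_cancel₀ _ n1]⟩

/-- the torus relation between two nodes -/
theorem Shape.link (i k : Fin f.num) (u v : Fˣ) (hu : Dom σ (f.J i) (u : F))
    (hv : (v : F) = a i u / a i 1) :
    Dom σ (f.J k) (chi D A (hvec D σ (f.J i) u) (D.simple (hd f k)) : F) ∧
      a k (chi D A (hvec D σ (f.J i) u) (D.simple (hd f k)) : F) =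
        (chi D A (hvec D σ (f.J i) v) (D.simple (hd f k)) : F) * a k 1 := by
  have g := h.good
  obtain ⟨J, hJ, hs, -, -, -⟩ := hd_mem X i.isLt
  have hsj : sep D A (f.J i) = true := hJ ▸ hs
  have hn1 : Dom σ (f.J i) (-1 : F) := (Dom.one _).neg
  set zu : ↥τ.fix := ⟨N g σ (f.J i) (u : F), N_fix X.G (X.orb i i.isLt) hu⟩
  set zm : ↥τ.fix := ⟨N g σ (f.J i) (-1 : F), N_fix X.G (X.orb i i.isLt) hn1⟩
  have hc : tor D A (hvec D σ (f.J i) u) ∈ τ.fix := by rw [h_eq h hsj]; exact (zu * zm).2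
  set χ := chi D A (hvec D σ (f.J i) u) (D.simple (hd f k))
  have hχ : Dom σ (f.J k) (χ : F) := chi_dom_hd X hc k.isLt
  refine ⟨hχ, ?_⟩
  have h1 : zu * zm * wS X (Or.inl rfl) k (Dom.one (σ := σ) (f.J k)) * (zu * zm)⁻¹ =
      wS X (Or.inl rfl) k hχ := by
    refine Subtype.ext ?_
    show N g σ (f.J i) (u : F) * N g σ (f.J i) (-1) * W g σ D.simple (f.J k) 1 *
      (N g σ (f.J i) (u : F) * N g σ (f.J i) (-1))⁻¹ = W g σ D.simple (f.J k) (χ : F)
    rw [← h_eq h hsj, tor_conj_W X hc k.isLt (Or.inl rfl), mul_one]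
  have n1 := hS.ne i (Dom.one (σ := σ) (f.J i)) one_ne_zero
  have nu := hS.ne i hu u.ne_zero
  have himg : (θ (zu * zm) : GL D.Idx F) = tor D A (hvec D σ (f.J i) v) := by
    set au : Fˣ := Units.mk0 _ nu
    set a1 : Fˣ := Units.mk0 _ n1
    have e1 : ∀ w : Fˣ, N g σ (f.J i) (w : F) = tor D A (hvec D σ (f.J i) w) * N g σ (f.J i) 1 := fun w => by
      rw [h_eq h hsj, N_neg h hsj, inv_mul_cancel_right]
    have hv' : v * a1 = au := Units.ext (by simp [au, a1, hv, div_mul_cancel₀ _ n1])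
    rw [map_mul, Subgroup.coe_mul, hS.map_N i hu u.ne_zero,
      hS.map_N i hn1 (neg_ne_zero.2 one_ne_zero), hS.map_neg i (Dom.one _), N_neg h hsj,
      show a i (u : F) = (au : F) from rfl, show a i 1 = (a1 : F) from rfl, e1 au, e1 a1, ← hv', hvec_mul,
      map_mul]
    group
  have hc' : tor D A (hvec D σ (f.J i) v) ∈ τ.fix := himg ▸ (θ (zu * zm)).2
  have h2 := congrArg (fun y => (θ y : GL D.Idx F)) h1
  rw [map_mul, map_mul, map_inv, Subgroup.coe_mul, Subgroup.coe_mul, Subgroup.coe_inv, himg,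
    (hS.pos k 1 (Dom.one _)).2, tor_conj_W X hc' k.isLt (Or.inl rfl), (hS.pos k _ hχ).2] at h2
  exact (wS_inj X (Or.inl rfl) k h2).symm

end

end CfsgLib.Chev.TwOut
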