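import Cfsg.Agent.Lib.Chev.TwOut.UV
import Cfsg.Agent.Lib.Chev.TwOut.Param
import Cfsg.Agent.Lib.Steinberg.RankOne

/-!
The rank one subgroups of a twisted group as images of `SL₂`.
-/

set_option autoImplicit false
set_option maxRecDepth 100000

namespace CfsgLib.Chev.TwOut

open Cfsg.Lie Matrix CfsgLib.Chev CfsgLib.Chev.TwSub
open CfsgLib.Steinberg (R1Data)
open CfsgLib.Steinberg.R1Data (up dn closure_gens)
open scoped MatrixGroups

variable {D : ChevalleyDatum} {A : Aux} {F : Type*} [Field F] {h : Std D A} {f : Fold}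
  {τ : Twist F h f} {sgn : ℕ → ℤ} {σ : F →+* F} {d : ℕ} {T : List FState}

theorem N_neg_inv (h : Std D A) {J : List ℕ} (hs : sep D A J = true) (t : F) :
    (N h.good σ J t)⁻¹ = N h.good σ J (-t) := by
  rw [N_eq h hs, N_eq h hs, inv_neg, neg_neg, _root_.mul_inv_rev, _root_.mul_inv_rev,
    W_inv h (Or.inl rfl) hs, W_inv h (Or.inr rfl) hs, neg_neg, mul_assoc]

theorem N_conj_neg (h : Std D A) {J : List ℕ} (hs : sep D A J = true) {t : F} (ht : t ≠ 0) (w : F) :
    N h.good σ J t * W h.good σ (negS D A) J w * (N h.good σ J t)⁻¹ =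
      W h.good σ D.simple J (-(t ^ 2 * w)) := by
  have h1 := N_conj (σ := σ) h hs (neg_ne_zero.2 ht) (-(t ^ 2 * w))
  rw [show -((( -t) ^ 2)⁻¹ * -(t ^ 2 * w)) = w by field_simp, ← N_neg_inv h hs] at h1
  rw [← h1]
  group

/-- the other factorisation of the monomial element -/
theorem N_eq' (h : Std D A) {J : List ℕ} (hs : sep D A J = true) {t : F} (ht : t ≠ 0) :
    N h.good σ J t = W h.good σ (negS D A) J (-t⁻¹) * W h.good σ D.simple J t *
      W h.good σ (negS D A) J (-t⁻¹) := by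
  have h1 := N_conj_neg (σ := σ) h hs ht (-t⁻¹)
  rw [show -(t ^ 2 * -t⁻¹) = t by field_simp] at h1
  have h2 := N_eq (σ := σ) h hs t
  set a := W h.good σ D.simple J t
  set b := W h.good σ (negS D A) J (-t⁻¹)
  set n := N h.good σ J t
  have hba : b * a = a⁻¹ * n := by rw [h2]; group
  rw [hba]
  rw [mul_inv_eq_iff_eq_mul] at h1
  rw [mul_assoc, h1, inv_mul_cancel_left]

/-- the subfield of parameters -/
def domField (σ : F →+* F) (J : List ℕ) : _root_.Subfield F := (σ ^ J.length).eqLocusField (RingHom.id F)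

theorem mem_domField {J : List ℕ} {t : F} : t ∈ domField σ J ↔ Dom σ J t := by
  show (σ ^ J.length) t = RingHom.id F t ↔ _
  rw [RingHom.coe_pow]
  rfl

/-- the data for the orbit `J` -/
noncomputable def orbR1 (h : Std D A) (σ : F →+* F) (J : List ℕ) (hs : sep D A J = true) :
    R1Data ↥(domField σ J) (GL D.Idx F) where
  x t := W h.good σ D.simple J (t : F)
  hh := MonoidHom.mk' (fun u => (tor D A (hvec D σ J (Units.map (domField σ J).subtype.toMonoidHom u)) :
    GL D.Idx F)) fun a b => by rw [map_mul, hvec_mul, map_mul]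
  N := N h.good σ J 1
  x_add t u := W_add h (Or.inl rfl) hs (t : F) (u : F)
  hh_x a t := by
    simp only [MonoidHom.mk'_apply]
    rw [h_eq h hs]
    have hm : ((Units.map (domField σ J).subtype.toMonoidHom a : Fˣ) : F) = ((a : ↥(domField σ J)) : F) :=
      rfl
    rw [hm]
    set c : F := ((a : ↥(domField σ J)) : F) with hc
    have hc0 : c ≠ 0 := fun e => a.ne_zero (Subtype.ext e)
    rw [show N h.good σ J c * N h.good σ J (-1) * W h.good σ D.simple J (t : F) *
        (N h.good σ J c * N h.good σ J (-1))⁻¹ =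
        N h.good σ J c * (N h.good σ J (-1) * W h.good σ D.simple J (t : F) * (N h.good σ J (-1))⁻¹) *
          (N h.good σ J c)⁻¹ by group,
      N_conj h hs (neg_ne_zero.2 one_ne_zero), N_conj_neg h hs hc0]
    congr 1
    push_cast
    ring
  N_hh a := by
    simp only [MonoidHom.mk'_apply]
    rw [h_eq h hs, h_eq h hs]
    have hm : ∀ b : (↥(domField σ J))ˣ,
        ((Units.map (domField σ J).subtype.toMonoidHom b : Fˣ) : F) = ((b : ↥(domField σ J)) : F) :=
      fun _ => rfl
    rw [hm, hm, Units.val_inv_eq_inv_val]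
    push_cast
    set c : F := ((a : ↥(domField σ J)) : F) with hc
    have hc0 : c ≠ 0 := fun e => a.ne_zero (Subtype.ext e)
    have e1 : (N h.good σ J (1 : F))⁻¹ = N h.good σ J (-1) := N_neg_inv h hs 1
    rw [← e1]
    have key : N h.good σ J 1 * N h.good σ J c * (N h.good σ J 1)⁻¹ = N h.good σ J c⁻¹ := by
      rw [N_eq' h hs (inv_ne_zero hc0), inv_inv, N_eq h hs c,
        show N h.good σ J 1 * (W h.good σ D.simple J c * W h.good σ (negS D A) J (-c⁻¹) *
            W h.good σ D.simple J c) * (N h.good σ J 1)⁻¹ =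
          (N h.good σ J 1 * W h.good σ D.simple J c * (N h.good σ J 1)⁻¹) *
          (N h.good σ J 1 * W h.good σ (negS D A) J (-c⁻¹) * (N h.good σ J 1)⁻¹) *
          (N h.good σ J 1 * W h.good σ D.simple J c * (N h.good σ J 1)⁻¹) by group,
        N_conj h hs one_ne_zero, N_conj_neg h hs one_ne_zero]
      simp
    rw [← key]
    group
  n_eq c := by
    simp only [MonoidHom.mk'_apply]
    rw [h_eq h hs, mul_assoc, ← N_neg_inv h hs, inv_mul_cancel, mul_one,
      N_conj h hs one_ne_zero, N_eq h hs]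
    simp
  N_sq := by
    simp only [MonoidHom.mk'_apply]
    rw [h_eq h hs]
    have hm : ((Units.map (domField σ J).subtype.toMonoidHom (-1) : Fˣ) : F) = -1 := rfl
    rw [hm, ← N_neg_inv h hs, _root_.mul_inv_rev, inv_inv]

theorem orbR1_y (h : Std D A) (σ : F →+* F) (J : List ℕ) (hs : sep D A J = true) (t : ↥(domField σ J)) :
    (orbR1 h σ J hs).y t = W h.good σ (negS D A) J (t : F) := by
  show N h.good σ J 1 * W h.good σ D.simple J ((-t : ↥(domField σ J)) : F) * (N h.good σ J 1)⁻¹ = _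
  rw [N_conj h hs one_ne_zero]
  simp

/-- the homomorphism of an orbit -/
noncomputable def orbHom (h : Std D A) (σ : F →+* F) (J : List ℕ) (hs : sep D A J = true) :
    SL(2, ↥(domField σ J)) →* GL D.Idx F :=
  (orbR1 h σ J hs).exists_hom.choose

section

variable {J : List ℕ} (hs : sep D A J = true)

theorem orbHom_up (t : ↥(domField σ J)) :
    orbHom h σ J hs (up t) = W h.good σ D.simple J (t : F) :=
  ((orbR1 h σ J hs).exists_hom.choose_spec (up t) t).1 rfl

theorem orbHom_dn (t : ↥(domField σ J)) :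
    orbHom h σ J hs (dn t) = W h.good σ (negS D A) J (t : F) :=
  (((orbR1 h σ J hs).exists_hom.choose_spec (dn t) t).2 rfl).trans (orbR1_y h σ J hs t)

theorem orbHom_wS : orbHom h σ J hs R1Data.wS = N h.good σ J 1 := by
  have e : (R1Data.wS : SL(2, ↥(domField σ J))) = up 1 * dn (-1) * up 1 := by
    refine Subtype.ext ?_
    ext p q
    fin_cases p <;> fin_cases q <;>
      simp [SpecialLinearGroup.coe_mul, Matrix.mul_apply, Fin.sum_univ_two]
  rw [e, map_mul, map_mul, orbHom_up, orbHom_dn, N_eq h hs]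
  simp

/-- `diag(u, u⁻¹)` -/
noncomputable def dia2 {E : Type*} [Field E] (u : Eˣ) : SL(2, E) :=
  ⟨!![(u : E), 0; 0, ((u⁻¹ : Eˣ) : E)], by simp [Matrix.det_fin_two]⟩

@[simp] theorem dia2_val {E : Type*} [Field E] (u : Eˣ) :
    (dia2 u : Matrix (Fin 2) (Fin 2) E) = !![(u : E), 0; 0, ((u⁻¹ : Eˣ) : E)] := rfl

theorem orbHom_dia (u : (↥(domField σ J))ˣ) :
    orbHom h σ J hs (dia2 u) = (orbR1 h σ J hs).hh u := by
  have e : dia2 u = up (u : ↥(domField σ J)) * dn (-(u : ↥(domField σ J))⁻¹) * up (u : ↥(domField σ J)) *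
      (up (-1) * dn 1 * up (-1)) := by
    refine Subtype.ext ?_
    ext i j
    fin_cases i <;> fin_cases j <;>
      simp [dia2, SpecialLinearGroup.coe_mul, Matrix.mul_apply, Fin.sum_univ_two]
  rw [e]
  simp only [map_mul, orbHom_up, orbHom_dn]
  show _ = (tor D A (hvec D σ J _) : GL D.Idx F)
  rw [h_eq h hs, N_eq h hs, N_eq h hs]
  simp

/-- the normal form in `SL₂` -/
theorem sl2_cases {E : Type*} [Field E] (g : SL(2, E)) :
    (∃ (a : E) (u : Eˣ), g = up a * dia2 u) ∨
      ∃ (a b : E) (u : Eˣ), g = up a * dia2 u * R1Data.wS * up b := by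
  have hd := R1Data.det_eq g
  by_cases hc : g 1 0 = 0
  · rw [hc, mul_zero, sub_zero] at hd
    refine Or.inl ⟨g 0 1 * g 0 0, Units.mkOfMulEqOne _ _ hd, Subtype.ext ?_⟩
    ext i j
    fin_cases i <;> fin_cases j <;>
      simp [R1Data.up_val, SpecialLinearGroup.coe_mul, Matrix.mul_apply, Fin.sum_univ_two, hc,
        Units.mkOfMulEqOne]
    linear_combination -(g 0 1) * hd
  · refine Or.inr ⟨g 0 0 / g 1 0, g 1 1 / g 1 0, Units.mk0 (-(g 1 0)⁻¹) (neg_ne_zero.2 (inv_ne_zero hc)),
      Subtype.ext ?_⟩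
    ext i j
    fin_cases i <;> fin_cases j <;>
      simp [R1Data.up_val, R1Data.wS_val, SpecialLinearGroup.coe_mul, Matrix.mul_apply, Fin.sum_univ_two, div_eq_mul_inv, hc]
    all_goals field_simp
    linear_combination -hd

variable (X : Fam τ sgn σ d T)

include X in
theorem orbHom_mem (hc : orbChk D A f sgn J = true) (g : SL(2, ↥(domField σ J))) :
    orbHom h σ J hs g ∈ τ.fix := by
  have hu : ∀ t, orbHom h σ J hs (up t) ∈ τ.fix := fun t => by
    rw [orbHom_up]; exact W_fix X.G (Or.inl rfl) hc (mem_domField.1 t.2)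
  have hd : orbHom h σ J hs R1Data.wS ∈ τ.fix := by
    rw [orbHom_wS]; exact N_fix X.G hc (Dom.one J)
  have : (⊤ : Subgroup SL(2, ↥(domField σ J))) ≤ τ.fix.comap (orbHom h σ J hs) := by
    rw [← closure_gens, Subgroup.closure_le]
    rintro _ (⟨t, rfl⟩ | rfl)
    exacts [hu t, hd]
  exact this (Subgroup.mem_top g)

end

theorem Fam.sepJ (X : Fam τ sgn σ d T) {j : ℕ} (hj : j < f.num) : sep D A (f.J j) = true := by
  have := X.orb j hj
  simp only [orbChk, Bool.and_eq_true] at this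
  exact this.1

variable (X : Fam τ sgn σ d T)

theorem nJ_not_borel {j : ℕ} (hj : j < f.num) (c : Fin D.rank → Fˣ) :
    (tor D A c : GL D.Idx F) * τ.nJ j ∉ D.borelSubgroup F := by
  intro hb
  have g := h.good
  have hm : (tor D A c : GL D.Idx F) * τ.nJ j ∈ D.monomialSubgroup F :=
    mul_mem (diag_le_monomial_of_good g (by rw [diagonalSubgroup_eq g]; exact ⟨c, rfl⟩))
      (τ.nJ_mem_monomial hj)
  have hd := mem_diag_of_borel_monomial h hb hm
  rw [diagonalSubgroup_eq g] at hd
  obtain ⟨c', hc'⟩ := hd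
  obtain ⟨i, hi⟩ := List.exists_mem_of_ne_nil _ (τ.valid.J_ne j hj)
  obtain ⟨h1, h2⟩ := Fold.Valid.simple_mem g τ.valid hj hi
  have hA := (acts_tor (F := F) g c).mul (τ.nJ_acts hj)
  rw [← hc'] at hA
  refine h2 ?_
  rw [show wf A (f.w j) (D.simple i) = D.simple i from hA.unique (acts_tor g c') h1.1]
  exact h1

theorem W_mem_pos {J : List ℕ} (hJ : ∀ i ∈ J, i < D.rank) (t : F) :
    W h.good σ D.simple J t ∈ D.posUnipotent F := by
  induction J generalizing t with
  | nil => simp [one_mem]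
  | cons i J ih =>
    rw [W_cons]
    exact mul_mem (xG_mem_posUnipotent h.good (simple_pos h.good (hJ i List.mem_cons_self)) t)
      (ih (fun k hk => hJ k (List.mem_cons_of_mem _ hk)) _)

/-- the normal form in an orbit subgroup -/
theorem orbHom_cases {j : ℕ} (hj : j < f.num) (g : SL(2, ↥(domField σ (f.J j)))) :
    (∃ (a : ↥(domField σ (f.J j))) (u : (↥(domField σ (f.J j)))ˣ), g = up a * dia2 u ∧ orbHom h σ (f.J j) (X.sepJ hj) g =
      W h.good σ D.simple (f.J j) (a : F) * (orbR1 h σ (f.J j) (X.sepJ hj)).hh u) ∨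
    ∃ (a b : ↥(domField σ (f.J j))) (u : (↥(domField σ (f.J j)))ˣ), orbHom h σ (f.J j) (X.sepJ hj) g =
      W h.good σ D.simple (f.J j) (a : F) * ((orbR1 h σ (f.J j) (X.sepJ hj)).hh u * τ.nJ j) *
        W h.good σ D.simple (f.J j) (b : F) := by
  rcases sl2_cases g with ⟨a, u, rfl⟩ | ⟨a, b, u, rfl⟩
  · exact Or.inl ⟨a, u, rfl, by rw [map_mul, orbHom_up, orbHom_dia]⟩
  · refine Or.inr ⟨a, b, u, ?_⟩
    rw [map_mul, map_mul, map_mul, orbHom_up, orbHom_up, orbHom_dia, orbHom_wS, X.nJ_eq hj]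
    group

/-- the diagonal part of an orbit subgroup -/
theorem orbHom_diag {j : ℕ} (hj : j < f.num) (g : SL(2, ↥(domField σ (f.J j))))
    (hg : orbHom h σ (f.J j) (X.sepJ hj) g ∈ D.diagonalSubgroup F) :
    ∃ u, g = dia2 u ∧
      orbHom h σ (f.J j) (X.sepJ hj) g = (orbR1 h σ (f.J j) (X.sepJ hj)).hh u := by
  have gg := h.good
  have hJ : ∀ i ∈ f.J j, i < D.rank := fun i hi => τ.valid.J_lt j hj i hi
  have hh : ∀ u, (orbR1 h σ (f.J j) (X.sepJ hj)).hh u ∈ D.diagonalSubgroup F := fun u => by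
    rw [diagonalSubgroup_eq gg]; exact ⟨_, rfl⟩
  rcases orbHom_cases X hj g with ⟨a, u, e, he⟩ | ⟨a, b, u, he⟩
  · refine ⟨u, ?_⟩
    rw [he] at hg
    have h1 : W h.good σ D.simple (f.J j) (a : F) = 1 :=
      Subgroup.mem_bot.1 ((posUnipotent_inf_diagonal (F := F) h).le (Subgroup.mem_inf.2
        ⟨W_mem_pos (h := h) hJ _, by simpa using mul_mem hg (inv_mem (hh u))⟩))
    have ha : a = 0 := Subtype.ext (wS_inj X (Or.inl rfl) ⟨j, hj⟩ (by rw [h1]; exact (W_zero _ _ _).symm))
    subst ha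
    refine ⟨?_, by rw [he, h1, one_mul]⟩
    rw [e, show up (0 : ↥(domField σ (f.J j))) = 1 from Subtype.ext (by simp [up, Matrix.one_fin_two]),
      one_mul]
  · exfalso
    rw [he] at hg
    have h1 := mul_mem (mul_mem (inv_mem (pos_le_borel (W_mem_pos (h := h) (σ := σ) hJ (a : F))))
      ((diag_le_borel : D.diagonalSubgroup F ≤ _) hg))
      (inv_mem (pos_le_borel (W_mem_pos (h := h) (σ := σ) hJ (b : F))))
    rw [show ∀ x y z : GL D.Idx F, x⁻¹ * (x * y * z) * z⁻¹ = y by intros; group] at h1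
    exact nJ_not_borel hj _ h1

/-- an orbit subgroup with faithful torus is a copy of `SL₂` -/
theorem orbHom_injective {j : ℕ} (hj : j < f.num)
    (hinj : Function.Injective (orbR1 h σ (f.J j) (X.sepJ hj)).hh) :
    Function.Injective (orbHom h σ (f.J j) (X.sepJ hj)) := by
  rw [injective_iff_map_eq_one]
  intro g hg
  obtain ⟨u, e, he⟩ := orbHom_diag X hj g (by rw [hg]; exact one_mem _)
  rw [hg] at he
  have hu : u = 1 := hinj (by rw [← he, map_one])
  rw [e, hu]
  exact Subtype.ext (by simp [dia2, Matrix.one_fin_two])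

end CfsgLib.Chev.TwOut
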