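import Cfsg.Agent.Lib.Chev.TwOut.RankOneSL2
import Cfsg.Agent.Lib.Schur.LiftedRankOne

/-!
The lifting data of a graph twisted group with two orbits of fundamental roots.
-/

set_option autoImplicit false
set_option maxRecDepth 100000

namespace CfsgLib.Chev.TwOut

open Cfsg.Lie Matrix CfsgLib.Chev CfsgLib.KnownB.ChevField CfsgLib.KnownB.ChevAutThm CfsgLib.Chev.TwSub
open CfsgLib.Schur
open CfsgLib.Steinberg.R1Data (up dn closure_gens)
open scoped MatrixGroups

/-- the orbit attached to a truth value -/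
def jOf (s : Bool) : ℕ := if s then 1 else 0

/-- the alternating word of length `n` -/
def alt : ℕ → Bool → List ℕ
  | 0, _ => []
  | n + 1, s => jOf s :: alt n (!s)

theorem alt_lt : ∀ (n : ℕ) (s : Bool) {m : ℕ}, 2 ≤ m → ∀ j ∈ alt n s, j < m
  | 0, _, _, _, _, hj => absurd hj List.not_mem_nil
  | n + 1, s, m, hm, j, hj => by
    rcases List.mem_cons.1 hj with rfl | hj
    · cases s <;> simp [jOf] <;> omega
    · exact alt_lt n _ hm j hj

variable {D : ChevalleyDatum} {A : Aux} {F : Type*} [Field F] {h : Std D A} {f : Fold}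
  {τ : Twist F h f} {sgn : ℕ → ℤ} {σ : F →+* F} {d : ℕ} {T : List FState}

/-- the unipotent subgroup inside the fixed group -/
noncomputable def fU (τ : Twist F h f) : Subgroup ↥τ.fix := (D.posUnipotent F).subgroupOf τ.fix

/-- the torus inside the fixed group -/
noncomputable def fH (τ : Twist F h f) : Subgroup ↥τ.fix := (D.diagonalSubgroup F).subgroupOf τ.fix

/-- an orbit group inside the fixed group -/
noncomputable def fX (τ : Twist F h f) (j : ℕ) : Subgroup ↥τ.fix := (τ.V (f.w j)).subgroupOf τ.fix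

theorem nW_alt (τ : Twist F h f) : ∀ (n : ℕ) (s : Bool),
    nW F h.good (f.flat (alt n s)) =
      ((List.range n).map fun i => τ.nJ (jOf (if i % 2 = 0 then s else !s))).prod
  | 0, _ => by simp [alt, Fold.flat, nW]
  | n + 1, s => by
    have e : nW F h.good (f.flat (alt (n + 1) s)) = τ.nJ (jOf s) * nW F h.good (f.flat (alt n (!s))) := by
      simp [alt, Fold.flat, nW, Twist.nJ]
    rw [e, nW_alt τ n (!s), List.range_succ_eq_map, List.map_cons, List.prod_cons, List.map_map]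
    congr 1
    refine congrArg List.prod (List.map_congr_left fun i _ => ?_)
    rcases Nat.mod_two_eq_zero_or_one i with hi | hi <;>
      simp [Nat.succ_eq_add_one, Nat.add_mod, hi]

theorem nW_alt_pow (τ : Twist F h f) (s : Bool) : ∀ k : ℕ,
    nW F h.good (f.flat (alt (2 * k) s)) = (τ.nJ (jOf s) * τ.nJ (jOf (!s))) ^ k
  | 0 => by simp [alt, Fold.flat, nW]
  | k + 1 => by
    rw [pow_succ', ← nW_alt_pow τ s k, show 2 * (k + 1) = 2 * k + 1 + 1 by ring]
    simp [alt, Fold.flat, nW, Twist.nJ, mul_assoc]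

theorem nW_alt_odd (τ : Twist F h f) (s : Bool) : ∀ k : ℕ,
    nW F h.good (f.flat (alt (2 * k + 1) s)) = (τ.nJ (jOf s) * τ.nJ (jOf (!s))) ^ k * τ.nJ (jOf s)
  | 0 => by simp [alt, Fold.flat, nW, Twist.nJ]
  | k + 1 => by
    rw [pow_succ', mul_assoc, ← nW_alt_odd τ s k, show 2 * (k + 1) + 1 = 2 * k + 1 + 1 + 1 by ring]
    simp [alt, Fold.flat, nW, Twist.nJ, mul_assoc]

variable (X : Fam τ sgn σ d T)

include X in
theorem mem_V_iff {j : ℕ} (hj : j < f.num) (y : GL D.Idx F) :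
    y ∈ τ.V (f.w j) ↔ ∃ t, Dom σ (f.J j) t ∧ W h.good σ D.simple (f.J j) t = y := by
  refine ⟨X.cls j hj y, ?_⟩
  rintro ⟨t, ht, rfl⟩
  refine Subgroup.mem_inf.2 ⟨?_, W_fix X.G (Or.inl rfl) (X.orb j hj) ht⟩
  have key : ∀ (L : List ℕ), (∀ i ∈ L, i ∈ f.J j) → ∀ u : F,
      W h.good σ D.simple L u ∈ UP F h.good (toNeg D (wf A (f.w j))) := by
    intro L
    induction L with
    | nil => intro _ u; simp [one_mem]
    | cons i L ih =>
      intro hL u
      rw [W_cons]
      refine mul_mem (xG_mem_UP h.good ?_ u) (ih (fun k hk => hL k (List.mem_cons_of_mem _ hk)) _)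
      obtain ⟨h1, h2⟩ := Fold.Valid.simple_mem h.good τ.valid hj (hL i List.mem_cons_self)
      exact ⟨h1, isNeg_of_not_pos h.good (wf_lt h.good (τ.valid.letters hj) h1.1) h2⟩
  exact key _ (fun i hi => hi) t

/-- what is needed besides the family -/
structure PairData (τ : Twist F h f) (σ : F →+* F) (T : List FState) (k : ℕ) : Prop where
  num : f.num = 2
  k_pos : 0 < k
  len : 4 * k ≤ T.length
  braid : SameOn D (wf A (f.flat (alt (2 * k) false))) (wf A (f.flat (alt (2 * k) true)))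
  back : ∀ i ∈ f.J 1, ∃ i' ∈ f.J 1, wf A (f.flat (alt (2 * (k - 1) + 1) false)) (D.simple i) = D.simple i'
  tor_gen : ∀ c : Fin D.rank → Fˣ, (tor D A c : GL D.Idx F) ∈ τ.fix →
    ∃ (u₀ : (↥(domField σ (f.J (jOf false))))ˣ) (u₁ : (↥(domField σ (f.J (jOf true))))ˣ),
      (tor D A c : GL D.Idx F) =
        tor D A (hvec D σ (f.J (jOf false)) (Units.map (domField σ (f.J (jOf false))).subtype.toMonoidHom u₀)) *
          tor D A (hvec D σ (f.J (jOf true)) (Units.map (domField σ (f.J (jOf true))).subtype.toMonoidHom u₁))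
  tor_disj : ∀ (u₀ : (↥(domField σ (f.J (jOf false))))ˣ) (u₁ : (↥(domField σ (f.J (jOf true))))ˣ),
    (tor D A (hvec D σ (f.J (jOf false)) (Units.map (domField σ (f.J (jOf false))).subtype.toMonoidHom u₀)) : GL D.Idx F) =
        tor D A (hvec D σ (f.J (jOf true)) (Units.map (domField σ (f.J (jOf true))).subtype.toMonoidHom u₁)) →
      u₀ = 1 ∧ u₁ = 1

variable {k : ℕ}

theorem jOf_lt (P : PairData τ σ T k) (s : Bool) : jOf s < f.num := by
  rw [P.num]; cases s <;> simp [jOf]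

variable (P : PairData τ σ T k)

/-- the homomorphism onto a rank one subgroup -/
noncomputable def phiS (s : Bool) : SL(2, ↥(domField σ (f.J (jOf s)))) →* ↥τ.fix :=
  (orbHom h σ (f.J (jOf s)) (X.sepJ (jOf_lt P s))).codRestrict τ.fix
    (orbHom_mem _ X (X.orb _ (jOf_lt P s)))

theorem phiS_range (s : Bool) :
    (phiS X P s).range = fX τ (jOf s) ⊔
      (fX τ (jOf s)).map (MulAut.conj (⟨τ.nJ (jOf s), τ.nJ_fix (jOf_lt P s)⟩ : ↥τ.fix)).toMonoidHom := by
  have hj := jOf_lt P s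
  set n : ↥τ.fix := ⟨τ.nJ (jOf s), τ.nJ_fix hj⟩
  have hs := X.sepJ hj
  have hN : τ.nJ (jOf s) = N h.good σ (f.J (jOf s)) 1 := X.nJ_eq hj
  have hneg : ∀ t : F, τ.nJ (jOf s) * W h.good σ D.simple (f.J (jOf s)) t * (τ.nJ (jOf s))⁻¹ =
      W h.good σ (negS D A) (f.J (jOf s)) (-t) := fun t => by
    rw [hN, N_conj h hs one_ne_zero]; simp
  refine le_antisymm ?_ (sup_le ?_ ?_)
  · rw [MonoidHom.range_eq_map, ← closure_gens, MonoidHom.map_closure, Subgroup.closure_le]
    have hup : ∀ t, phiS X P s (up t) ∈ fX τ (jOf s) := fun t => by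
      rw [fX, Subgroup.mem_subgroupOf, mem_V_iff X hj]
      exact ⟨(t : F), mem_domField.1 t.2, (orbHom_up hs t).symm⟩
    have hdn : ∀ t, phiS X P s (dn t) ∈ (fX τ (jOf s)).map (MulAut.conj n).toMonoidHom := fun t => by
      refine ⟨phiS X P s (up (-t)), hup _, Subtype.ext ?_⟩
      show τ.nJ (jOf s) * orbHom h σ _ hs (up (-t)) * (τ.nJ (jOf s))⁻¹ = orbHom h σ _ hs (dn t)
      rw [orbHom_up, orbHom_dn, hneg]
      simp
    rintro _ ⟨_, ⟨t, rfl⟩ | rfl, rfl⟩
    · exact Subgroup.mem_sup_left (hup t)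
    · have e : (CfsgLib.Steinberg.R1Data.wS : SL(2, ↥(domField σ (f.J (jOf s))))) =
          up 1 * dn (-1) * up 1 := by
        refine Subtype.ext ?_
        ext p q
        fin_cases p <;> fin_cases q <;>
          simp [SpecialLinearGroup.coe_mul, Matrix.mul_apply, Fin.sum_univ_two]
      rw [e, map_mul, map_mul]
      exact mul_mem (mul_mem (Subgroup.mem_sup_left (hup _)) (Subgroup.mem_sup_right (hdn _)))
        (Subgroup.mem_sup_left (hup _))
  · intro y hy
    rw [fX, Subgroup.mem_subgroupOf, mem_V_iff X hj] at hy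
    obtain ⟨t, ht, e⟩ := hy
    exact ⟨up ⟨t, mem_domField.2 ht⟩, Subtype.ext ((orbHom_up hs _).trans e)⟩
  · rintro _ ⟨y, hy, rfl⟩
    rw [SetLike.mem_coe, fX, Subgroup.mem_subgroupOf, mem_V_iff X hj] at hy
    obtain ⟨t, ht, e⟩ := hy
    refine ⟨dn (-⟨t, mem_domField.2 ht⟩), Subtype.ext ?_⟩
    show orbHom h σ _ hs (dn (-⟨t, mem_domField.2 ht⟩)) = τ.nJ (jOf s) * (y : GL D.Idx F) * (τ.nJ (jOf s))⁻¹
    rw [orbHom_dn, ← e, hneg]
    rfl

variable [Fintype F] (p : ℕ) [hp : Fact p.Prime] [CharP F p]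

set_option maxHeartbeats 800000 in
-- the fields of the datum
/-- the lifting data -/
noncomputable def liftDatum : RankTwo.Datum p ↥τ.fix where
  U := fU τ
  H := fH τ
  X s := fX τ (jOf s)
  n s := ⟨τ.nJ (jOf s), τ.nJ_fix (jOf_lt P s)⟩
  k := k
  U_pgroup := by
    obtain ⟨Q, hQ⟩ := sylow_U (p := p) X
    rw [show fU τ = (Q : Subgroup ↥τ.fix) from hQ.symm]
    exact Q.2
  X_le s := fun y hy => (τ.V_le_pos _ hy).1
  H_U y hy u hu := by
    show ((y * u * y⁻¹ : ↥τ.fix) : GL D.Idx F) ∈ D.posUnipotent F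
    push_cast
    exact borel_conj_pos h.good ((diag_le_borel : D.diagonalSubgroup F ≤ _) hy) hu
  H_X s y hy u hu := by
    have hy' : (y : GL D.Idx F) ∈ D.diagonalSubgroup F := hy
    rw [diagonalSubgroup_eq h.good] at hy'
    obtain ⟨c, hc⟩ := hy'
    show ((y * u * y⁻¹ : ↥τ.fix) : GL D.Idx F) ∈ τ.V _
    push_cast
    refine Subgroup.mem_inf.2 ⟨?_, mul_mem (mul_mem y.2 u.2) (inv_mem y.2)⟩
    rw [← hc]
    exact conj_UP_le (acts_tor h.good c) (fun r hr => hr.1.1)
      (fun r t hr => xG_mem_UP h.good (P := toNeg D (wf A (f.w (jOf s)))) hr t) hu.1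
  H_opp s y hy u hu := by
    set n : ↥τ.fix := ⟨τ.nJ (jOf s), τ.nJ_fix (jOf_lt P s)⟩
    have hj := jOf_lt P s
    have hy' : (y : GL D.Idx F) ∈ D.diagonalSubgroup F := hy
    have h1 : ((n⁻¹ * y * n : ↥τ.fix) : GL D.Idx F) ∈ D.diagonalSubgroup F := by
      have h2 := conj_diag h.good (τ.nJ_mem_monomial hj) hy'
      have h3 := mul_mem (mul_mem (inv_mem (τ.nJ_sq hj)) h2) (τ.nJ_sq hj)
      convert h3 using 1
      show (τ.nJ (jOf s))⁻¹ * (y : GL D.Idx F) * τ.nJ (jOf s) = _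
      group
    rw [diagonalSubgroup_eq h.good] at h1
    obtain ⟨c, hc⟩ := h1
    refine ⟨n⁻¹ * y * n * u * (n⁻¹ * y * n)⁻¹, Subgroup.mem_subgroupOf.2 (Subgroup.mem_inf.2 ⟨?_, ?_⟩), ?_⟩
    · rw [Subgroup.coe_mul, Subgroup.coe_mul, Subgroup.coe_inv, ← hc]
      exact conj_UP_le (acts_tor h.good c) (fun r hr => hr.1.1)
        (fun r t hr => xG_mem_UP h.good (P := toNeg D (wf A (f.w (jOf s)))) hr t) hu.1
    · exact Subtype.prop _
    · show n * (n⁻¹ * y * n * u * (n⁻¹ * y * n)⁻¹) * n⁻¹ = y * (n * u * n⁻¹) * y⁻¹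
      group
  n_mem s := by
    rw [← phiS_range X P s]
    exact ⟨CfsgLib.Steinberg.R1Data.wS, Subtype.ext ((orbHom_wS _).trans (X.nJ_eq (jOf_lt P s)).symm)⟩
  n_sq s := τ.nJ_sq (jOf_lt P s)
  n_H s y hy := conj_diag h.good (τ.nJ_mem_monomial (jOf_lt P s)) hy
  split s u hu := by
    have hj := jOf_lt P s
    have g := h.good
    set j := jOf s
    have hwlt : ∀ r < D.nroots, wf A (f.w j) r < D.nroots := fun r hr => wf_lt g (τ.valid.letters hj) hr
    have hu' : (u : GL D.Idx F) ∈ UL F g D.posRoots := by rw [UL_posRoots g]; exact hu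
    obtain ⟨a, ha, b, hb, e⟩ := pos_split h _ hwlt upList_posRoots hu'
    obtain ⟨a', ha', hma⟩ := τ.maps_UP
      (Q := fun r => D.IsPosRoot r ∧ D.IsPosRoot (wf A (f.w j) r)) (fun r hr => hr.1.1)
      (fun r hr => ⟨τ.valid.r_pos r hr.1, by rw [τ.valid.w_comm j hj r hr.1.1]; exact τ.valid.r_pos _ hr.2⟩) ha
    obtain ⟨b', hb', hmb⟩ := τ.maps_toNeg (τ.valid.letters hj) (τ.valid.w_comm j hj) hb
    have ee : a * b = a' * b' := Twist.Maps.fun_eq τ (e ▸ u.2) (Twist.Maps.mul τ hma hmb)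
    have hm : ∀ x ∈ UP F g (fun r => D.IsPosRoot r ∧ D.IsPosRoot (wf A (f.w j) r)),
        τ.nJ j * x * (τ.nJ j)⁻¹ ∈ D.posUnipotent F := fun x hx =>
      conj_UP_le (τ.nJ_acts hj) (fun r hr => hr.1.1) (fun r t hr => xG_mem_posUnipotent g hr.2 t) hx
    have hm' : ∀ x ∈ UP F g (toNeg D (wf A (f.w j))), τ.nJ j * x * (τ.nJ j)⁻¹ ∈ D.negUnipotent F := fun x hx =>
      conj_UP_le (τ.nJ_acts hj) (fun r hr => hr.1.1) (fun r t hr => xG_mem_negUnipotent g hr.2 t) hx
    have h1 : a'⁻¹ * a = b' * b⁻¹ := by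
      rw [eq_mul_inv_iff_mul_eq, mul_assoc, ee, inv_mul_cancel_left]
    have h2 : τ.nJ j * (a'⁻¹ * a) * (τ.nJ j)⁻¹ = 1 := by
      refine Subgroup.mem_bot.1 ((borel_inf_negUnipotent (F := F) h).le (Subgroup.mem_inf.2
        ⟨pos_le_borel (hm _ (mul_mem (inv_mem ha') ha)), ?_⟩))
      rw [h1]; exact hm' _ (mul_mem hb' (inv_mem hb))
    have haa : a' = a := inv_mul_eq_one.1 (conj_eq_one_iff.1 h2)
    have hbb : b' = b := by rw [haa, inv_mul_cancel] at h1; exact mul_inv_eq_one.1 h1.symm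
    rw [haa] at hma
    rw [hbb] at hmb
    refine ⟨⟨b, hmb⟩, Subgroup.mem_inf.2 ⟨hb, hmb⟩, ⟨a, hma⟩, UP_le (fun r t hr => xG_mem_posUnipotent g hr.1 t) ha,
      hm _ ha, Subtype.ext e⟩
  rankOne s u hu hne := by
    have hj := jOf_lt P s
    have hs := X.sepJ hj
    rw [fX, Subgroup.mem_subgroupOf, mem_V_iff X hj] at hu
    obtain ⟨t, ht, e⟩ := hu
    have ht0 : t ≠ 0 := fun h0 => hne (Subtype.ext (by
      rw [← e, h0, W_zero]; rfl))
    have hti := Dom.inv ht
    have hX : ∀ v, Dom σ (f.J (jOf s)) v → ∀ hv : W h.good σ D.simple (f.J (jOf s)) v ∈ τ.fix,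
        (⟨_, hv⟩ : ↥τ.fix) ∈ fX τ (jOf s) := fun v hv _ => by
      rw [fX, Subgroup.mem_subgroupOf, mem_V_iff X hj]; exact ⟨v, hv, rfl⟩
    have hw := W_fix X.G (Or.inl rfl) (X.orb _ hj) (Dom.neg hti)
    have hh : N h.good σ (f.J (jOf s)) t⁻¹ * N h.good σ (f.J (jOf s)) (-1) ∈ τ.fix :=
      mul_mem (N_fix X.G (X.orb _ hj) hti) (N_fix X.G (X.orb _ hj) (Dom.neg (Dom.one _)))
    refine ⟨⟨_, hw⟩, hX _ (Dom.neg hti) hw, ⟨_, hh⟩, ?_, ⟨_, hw⟩, hX _ (Dom.neg hti) hw, Subtype.ext ?_⟩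
    · show N h.good σ (f.J (jOf s)) t⁻¹ * N h.good σ (f.J (jOf s)) (-1) ∈ D.diagonalSubgroup F
      have h1 := h_eq (σ := σ) h hs (Units.mk0 t⁻¹ (inv_ne_zero ht0))
      rw [Units.val_mk0] at h1
      rw [← h1, diagonalSubgroup_eq h.good]
      exact ⟨_, rfl⟩
    · show τ.nJ (jOf s) * (u : GL D.Idx F) * (τ.nJ (jOf s))⁻¹ =
        W h.good σ D.simple (f.J (jOf s)) (-t⁻¹) * (N h.good σ (f.J (jOf s)) t⁻¹ * N h.good σ (f.J (jOf s)) (-1)) *
          τ.nJ (jOf s) * W h.good σ D.simple (f.J (jOf s)) (-t⁻¹)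
      rw [← e, X.nJ_eq hj, N_conj h hs one_ne_zero, N_eq h hs t⁻¹, ← N_neg_inv h hs 1, inv_inv,
        ← W_inv h (Or.inl rfl) hs]
      simp only [one_pow, inv_one, one_mul]
      group
  H_gen y hy := by
    have hy' : (y : GL D.Idx F) ∈ D.diagonalSubgroup F := hy
    rw [diagonalSubgroup_eq h.good] at hy'
    obtain ⟨c, hc⟩ := hy'
    obtain ⟨u₀, u₁, e⟩ := P.tor_gen c (hc ▸ y.2)
    have h0 := phiS_range X P false
    have h1 := phiS_range X P true
    rw [← h0, ← h1]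
    refine ⟨phiS X P false (dia2 u₀), ⟨⟨_, rfl⟩, ?_⟩, phiS X P true (dia2 u₁), ⟨⟨_, rfl⟩, ?_⟩,
      Subtype.ext ?_⟩
    · show orbHom h σ _ (X.sepJ (jOf_lt P false)) (dia2 u₀) ∈ D.diagonalSubgroup F
      rw [orbHom_dia, diagonalSubgroup_eq h.good]; exact ⟨_, rfl⟩
    · show orbHom h σ _ (X.sepJ (jOf_lt P true)) (dia2 u₁) ∈ D.diagonalSubgroup F
      rw [orbHom_dia, diagonalSubgroup_eq h.good]; exact ⟨_, rfl⟩
    · show (y : GL D.Idx F) = orbHom h σ _ (X.sepJ (jOf_lt P false)) (dia2 u₀) *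
        orbHom h σ _ (X.sepJ (jOf_lt P true)) (dia2 u₁)
      rw [orbHom_dia, orbHom_dia, ← hc]
      exact e
  H_disj := by
    have h0 := phiS_range X P false
    have h1 := phiS_range X P true
    rw [← h0, ← h1, Subgroup.disjoint_def]
    rintro y ⟨⟨a, rfl⟩, hy⟩ ⟨⟨b, hb⟩, -⟩
    have hy' : orbHom h σ _ (X.sepJ (jOf_lt P false)) a ∈ D.diagonalSubgroup F := hy
    obtain ⟨u₀, -, e0⟩ := orbHom_diag X (jOf_lt P false) a hy'
    have hb' : orbHom h σ _ (X.sepJ (jOf_lt P true)) b = orbHom h σ _ (X.sepJ (jOf_lt P false)) a :=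
      congrArg Subtype.val hb
    obtain ⟨u₁, -, e1⟩ := orbHom_diag X (jOf_lt P true) b (hb' ▸ hy')
    obtain ⟨r0, -⟩ := P.tor_disj u₀ u₁ (by
      show (orbR1 h σ _ (X.sepJ (jOf_lt P false))).hh u₀ = (orbR1 h σ _ (X.sepJ (jOf_lt P true))).hh u₁
      rw [← e0, ← e1, hb'])
    refine Subtype.ext ?_
    show orbHom h σ _ (X.sepJ (jOf_lt P false)) a = 1
    rw [e0, r0, map_one]
  U_inf x hx hxU := by
    have hm : (x : GL D.Idx F) ∈ D.monomialSubgroup F := by
      have hle : Subgroup.closure ((fH τ : Set ↥τ.fix) ∪ Set.range fun s => (⟨τ.nJ (jOf s), τ.nJ_fix (jOf_lt P s)⟩ : ↥τ.fix)) ≤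
          (D.monomialSubgroup F).subgroupOf τ.fix := by
        rw [Subgroup.closure_le]
        rintro y (hy | ⟨s, rfl⟩)
        · exact diag_le_monomial_of_good h.good hy
        · exact τ.nJ_mem_monomial (jOf_lt P s)
      exact hle hx
    exact Subtype.ext (Subgroup.mem_bot.1 ((posUnipotent_inf_diagonal (F := F) h).le (Subgroup.mem_inf.2
      ⟨hxU, mem_diag_of_borel_monomial h (pos_le_borel hxU) hm⟩)))
  positive x hx s := by
    have g := h.good
    have hj := jOf_lt P s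
    have hm : (x : GL D.Idx F) ∈ D.monomialSubgroup F := by
      have hle : Subgroup.closure ((fH τ : Set ↥τ.fix) ∪ Set.range fun s => (⟨τ.nJ (jOf s), τ.nJ_fix (jOf_lt P s)⟩ : ↥τ.fix)) ≤
          (D.monomialSubgroup F).subgroupOf τ.fix := by
        rw [Subgroup.closure_le]
        rintro y (hy | ⟨s, rfl⟩)
        · exact diag_le_monomial_of_good h.good hy
        · exact τ.nJ_mem_monomial (jOf_lt P s)
      exact hle hx
    obtain ⟨e, he, c, hc, ex⟩ := τ.fix_monomial X.S.tab (inv_mem hm) (inv_mem x.2)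
    have hc' := (Subgroup.mem_inf.1 hc).1
    rw [diagonalSubgroup_eq g] at hc'
    obtain ⟨cc, hcc⟩ := hc'
    have hl := X.S.tab.letters e he
    have hA : Acts g (x : GL D.Idx F)⁻¹ (id ∘ wf A (f.flat e.word)) := by
      rw [ex, ← hcc]
      exact (acts_tor g cc).mul (nW_acts g (τ.valid.flat_letters hl))
    obtain ⟨i, hi⟩ := List.exists_mem_of_ne_nil _ (τ.valid.J_ne _ hj)
    obtain ⟨hi1, -⟩ := Fold.Valid.simple_mem g τ.valid hj hi
    have hi1' := hi1.1
    by_cases hp : D.IsPosRoot (wf A (f.flat e.word) (D.simple i))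
    · refine Or.inl fun u hu => ?_
      show ((x⁻¹ * u * x : ↥τ.fix) : GL D.Idx F) ∈ D.posUnipotent F
      push_cast
      have h1 := conj_UP_le (K := D.posUnipotent F) hA (fun r hr => hr.1.1)
        (fun r t hr => xG_mem_posUnipotent g
          (orbit_pos τ.valid g hl hj hi hp hr) t) (hu : _ ∈ τ.V _).1
      rwa [inv_inv] at h1
    · refine Or.inr fun u hu => ?_
      show ((x⁻¹ * (_ * u * _⁻¹) * x : ↥τ.fix) : GL D.Idx F) ∈ D.posUnipotent F
      push_cast
      have hw := τ.valid.flat_letters hl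
      have hA2 : Acts g ((x : GL D.Idx F)⁻¹ * τ.nJ (jOf s))
          ((id ∘ wf A (f.flat e.word)) ∘ wf A (f.w (jOf s))) := hA.mul (τ.nJ_acts hj)
      have h1 := conj_UP_le (K := D.posUnipotent F) hA2 (fun r hr => hr.1.1)
        (fun r t hr => xG_mem_posUnipotent g ?_ t) (hu : _ ∈ τ.V _).1
      · convert h1 using 1
        rw [Subgroup.coe_subtype]
        group
      -- the image of an inverted root stays positive
      have hlt := wf_lt g (τ.valid.letters hj) hr.1.1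
      show D.IsPosRoot (wf A (f.flat e.word) (wf A (f.w (jOf s)) r))
      set q := wf A (f.w (jOf s)) r
      have hq : toNeg D (wf A (f.w (jOf s))) (A.neg q) := by
        have hqn : D.IsPosRoot (A.neg q) := by
          rcases pos_or_pos_neg g hlt with h' | h'
          · exact absurd h' (not_pos_of_isNeg g hr.2)
          · exact h'
        refine ⟨hqn, ?_⟩
        rw [(wf_rootMap g (τ.valid.letters hj)).map_neg g hlt, τ.valid.w_invol _ hj r hr.1.1]
        exact isNeg_of_not_pos g (g.neg_lt r hr.1.1) fun hh => by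
          rcases pos_or_pos_neg g hr.1.1 with h' | h'
          · exact not_pos_neg g h' hh
          · exact not_pos_neg g hr.1 h'
      have hinv := Fold.Valid.inverts_orbit g τ.valid hw
        (fun s hs => Fold.Valid.flat_comm g τ.valid hl hs) hj hi hp hq.1 (not_pos_of_isNeg g hq.2)
      rw [(wf_rootMap g hw).map_neg g hlt] at hinv
      rcases pos_or_pos_neg g (wf_lt g hw hlt) with h' | h'
      · exact h'
      · exact absurd h' hinv
  k_pos := P.k_pos
  braid_H := by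
    rw [fH, Subgroup.mem_subgroupOf]
    push_cast
    have g := h.good
    have e1 : (τ.nJ (jOf false) * τ.nJ (jOf true)) ^ k = nW F g (f.flat (alt (2 * k) false)) :=
      (nW_alt_pow τ false k).symm
    have e2 : (τ.nJ (jOf true) * τ.nJ (jOf false)) ^ k = nW F g (f.flat (alt (2 * k) true)) :=
      (nW_alt_pow τ true k).symm
    rw [e1, e2]
    have hl : ∀ s, Letters D (f.flat (alt (2 * k) s)) := fun s =>
      τ.valid.flat_letters (alt_lt _ s P.num.ge)
    exact diag_of_sameOn h (nW_mem g (hl _)) (nW_mem g (hl _)) (nW_acts g (hl _)) (nW_acts g (hl _)) P.braid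
  braid_X u hu := by
    have g := h.good
    have hl : ∀ j ∈ alt (2 * (k - 1) + 1) false, j < f.num := alt_lt _ false P.num.ge
    rw [fX, Subgroup.mem_subgroupOf]
    push_cast
    have e : (τ.nJ (jOf false) * τ.nJ (jOf true)) ^ (k - 1) * τ.nJ (jOf false) =
        nW F g (f.flat (alt (2 * (k - 1) + 1) false)) := (nW_alt_odd τ false (k - 1)).symm
    rw [e]
    have hu' : (u : GL D.Idx F) ∈ τ.V (f.w (jOf true)) := hu
    refine Subgroup.mem_inf.2 ⟨?_, mul_mem (mul_mem (τ.nFlat_fix hl) u.2) (inv_mem (τ.nFlat_fix hl))⟩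
    have hj := jOf_lt P true
    obtain ⟨t, ht, ew⟩ := (mem_V_iff X hj _).1 hu'
    rw [← ew]
    have key : ∀ (L : List ℕ), (∀ i ∈ L, i ∈ f.J 1) → ∀ v : F,
        W h.good σ D.simple L v ∈ UP F g (fun r => ∃ i ∈ f.J 1, D.simple i = r) := by
      intro L
      induction L with
      | nil => intro _ v; simp [one_mem]
      | cons i L ih =>
        intro hL v
        rw [W_cons]
        exact mul_mem (xG_mem_UP g (P := fun r => ∃ i ∈ f.J 1, D.simple i = r) ⟨i, hL i List.mem_cons_self, rfl⟩ v)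
          (ih (fun m hm => hL m (List.mem_cons_of_mem _ hm)) _)
    refine conj_UP_le (nW_acts g (τ.valid.flat_letters hl)) (fun r ⟨i, hi, e⟩ => e ▸ g.simple_lt i (τ.valid.J_lt 1 hj i hi))
      (fun r v ⟨i, hi, e⟩ => ?_) (key _ (fun _ h => h) t)
    obtain ⟨i', hi', e'⟩ := P.back i hi
    rw [← e, e']
    obtain ⟨h1, h2⟩ := Fold.Valid.simple_mem g τ.valid hj hi'
    exact xG_mem_UP g (P := toNeg D (wf A (f.w (jOf true))))
      ⟨h1, isNeg_of_not_pos g (wf_lt g (τ.valid.letters hj) h1.1) h2⟩ v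
  index := by
    classical
    haveI : Finite (GL D.Idx F) := finite_GL
    have g := h.good
    set NN := Subgroup.closure ((fH τ : Set ↥τ.fix) ∪ Set.range fun s => (⟨τ.nJ (jOf s), τ.nJ_fix (jOf_lt P s)⟩ : ↥τ.fix))
    have hmem : ∀ e ∈ T, ∀ hw : nW F g (f.flat e.word) ∈ τ.fix,
        (⟨_, hw⟩ : ↥τ.fix) ∈ NN := by
      intro e he hw
      have h1 := τ.nFlat_mem_closure (X.S.tab.letters e he)
      have h2 : Subgroup.closure {y | ∃ j < f.num, y = τ.nJ j} ≤ NN.map τ.fix.subtype := by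
        rw [Subgroup.closure_le]
        rintro y ⟨j, hj, rfl⟩
        rw [P.num] at hj
        obtain ⟨s, rfl⟩ : ∃ s, jOf s = j := by
          rcases j with _ | _ | j
          · exact ⟨false, rfl⟩
          · exact ⟨true, rfl⟩
          · omega
        exact ⟨⟨τ.nJ (jOf s), τ.nJ_fix (jOf_lt P s)⟩, Subgroup.subset_closure (Or.inr ⟨s, rfl⟩), rfl⟩
      obtain ⟨y, hy, ey⟩ := h2 h1
      rwa [show (⟨_, hw⟩ : ↥τ.fix) = y from Subtype.ext ey.symm]
    refine le_trans P.len ?_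
    let F0 : {e // e ∈ T} → ↥NN ⧸ (fH τ).subgroupOf NN := fun e =>
      QuotientGroup.mk ⟨⟨_, τ.nFlat_fix (X.S.tab.letters e.1 e.2)⟩, hmem e.1 e.2 _⟩
    have hinj : Function.Injective F0 := by
      intro a b e
      have e' := QuotientGroup.eq.1 e
      rw [Subgroup.mem_subgroupOf] at e'
      have h1 : (nW F g (f.flat a.1.word))⁻¹ * nW F g (f.flat b.1.word) ∈ D.diagonalSubgroup F :=
        e'
      rw [diagonalSubgroup_eq g] at h1
      obtain ⟨c, hc⟩ := h1
      have e1 : nW F g (f.flat b.1.word) = nW F g (f.flat a.1.word) * tor D A c := by rw [hc]; group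
      have hb := nW_acts (F := F) g (τ.valid.flat_letters (X.S.tab.letters b.1 b.2))
      rw [e1] at hb
      exact Subtype.ext (X.S.tab.distinct _ a.2 _ b.2 fun r hr =>
        ((nW_acts g (τ.valid.flat_letters (X.S.tab.letters a.1 a.2))).mul (acts_tor g c)).unique hb hr)
    have h3 := Nat.card_le_card_of_injective F0 hinj
    rw [← List.toFinset_card_of_nodup X.S.tab.nodup]
    refine le_trans (le_of_eq ?_) h3
    rw [← Nat.card_eq_finsetCard]
    exact Nat.card_congr (Equiv.subtypeEquivRight fun e => List.mem_toFinset)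
  gen := by
    rw [eq_top_iff]
    rintro ⟨y, hy⟩ -
    obtain ⟨u, hu, t, ht, e, he, v, hv, ey⟩ := τ.fix_decomp X.S.tab hy
    have hm := τ.nFlat_fix (X.S.tab.letters e he)
    rw [show (⟨y, hy⟩ : ↥τ.fix) = ⟨u, hu.2⟩ * ⟨t, ht.2⟩ * ⟨_, hm⟩ * ⟨v, hv.2⟩ from Subtype.ext ey]
    refine mul_mem (mul_mem (mul_mem (Subgroup.mem_sup_left hu.1)
      (Subgroup.mem_sup_right (Subgroup.subset_closure (Or.inl ht.1)))) (Subgroup.mem_sup_right ?_))
      (Subgroup.mem_sup_left (τ.V_le_pos _ hv).1)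
    have h1 := τ.nFlat_mem_closure (X.S.tab.letters e he)
    have h2 : Subgroup.closure {y | ∃ j < f.num, y = τ.nJ j} ≤
        (Subgroup.closure ((fH τ : Set ↥τ.fix) ∪ Set.range fun s =>
          (⟨τ.nJ (jOf s), τ.nJ_fix (jOf_lt P s)⟩ : ↥τ.fix))).map τ.fix.subtype := by
      rw [Subgroup.closure_le]
      rintro y ⟨j, hj, rfl⟩
      rw [P.num] at hj
      obtain ⟨s, rfl⟩ : ∃ s, jOf s = j := by
        rcases j with _ | _ | j
        · exact ⟨false, rfl⟩
        · exact ⟨true, rfl⟩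
        · omega
      exact ⟨⟨τ.nJ (jOf s), τ.nJ_fix (jOf_lt P s)⟩, Subgroup.subset_closure (Or.inr ⟨s, rfl⟩), rfl⟩
    obtain ⟨y', hy', ey'⟩ := h2 h1
    rwa [show (⟨_, hm⟩ : ↥τ.fix) = y' from Subtype.ext ey'.symm]

universe v

variable {Γ : Type v} [Group Γ] [Finite Γ]

/-- central extensions with kernel prime to the characteristic split -/
theorem ker_trivial (π : Γ →* ↥τ.fix) (hsurj : Function.Surjective π) (hc : π.ker ≤ Subgroup.center Γ)
    (hco : (Nat.card π.ker).Coprime p) (hperf : _root_.commutator Γ = ⊤)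
    (hinj : ∀ s, Function.Injective (orbR1 h σ (f.J (jOf s)) (X.sepJ (jOf_lt P s))).hh) :
    π.ker = ⊥ := by
  refine RankTwo.ker_trivial π (liftDatum X P p) hsurj hc hco hperf fun s => ?_
  haveI : CharP ↥(domField σ (f.J (jOf s))) p :=
    (RingHom.charP_iff (domField σ (f.J (jOf s))).subtype (Subtype.val_injective) p).2 inferInstance
  haveI : Fintype ↥(domField σ (f.J (jOf s))) := Fintype.ofFinite _
  refine RankTwo.liftL_inf_ker π (liftDatum X P p) s hsurj hc hco (phiS X P s) ?_ (phiS_range X P s)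
    (RankTwo.primeTo_SL2 p)
  intro a b e
  exact orbHom_injective X (jOf_lt P s) (hinj s) (congrArg Subtype.val e)

end CfsgLib.Chev.TwOut
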