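import Cfsg.Agent.Lib.Chev.TwOut.Orbit
import Cfsg.Agent.Lib.Chev.Twist.FixBN
import Cfsg.Agent.Lib.Chev.Twist.Torus

/-!
The rank one subgroups inside the fixed points, and the hypotheses on a family.
-/

set_option autoImplicit false
set_option maxRecDepth 100000

namespace CfsgLib.Chev.TwOut

open Cfsg.Lie Matrix CfsgLib.Chev CfsgLib.KnownB.ChevField CfsgLib.KnownB.ChevAutThm CfsgLib.Chev.TwSub

variable {D : ChevalleyDatum} {A : Aux} {F : Type*} [Field F] {h : Std D A} {f : Fold}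
  {τ : Twist F h f} {sgn : ℕ → ℤ} {σ : F →+* F} {d : ℕ} {T : List FState}

variable (D A f sgn) in
/-- the check of one orbit -/
noncomputable def orbChk (J : List ℕ) : Bool :=
  sep D A J && decide (J.map f.p = J.tail ++ J.take 1 ∧ J ≠ [] ∧
    ∀ i ∈ J, sgn (D.simple i) = 1 ∧ sgn (negS D A i) = 1)

/-- the parameters of the orbit -/
def Dom (σ : F →+* F) (J : List ℕ) (t : F) : Prop := σ^[J.length] t = t

theorem orbChk_cons {J : List ℕ} (hc : orbChk D A f sgn J = true) :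
    ∃ i J', J = i :: J' ∧ sep D A (i :: J') = true ∧ (i :: J').map f.p = J' ++ [i] ∧
      ∀ P, Kind D A P → ∀ k ∈ i :: J', sgn (P k) = 1 := by
  simp only [orbChk, Bool.and_eq_true, decide_eq_true_eq] at hc
  obtain ⟨h1, h2, h3, h4⟩ := hc
  cases J with
  | nil => exact absurd rfl h3
  | cons i J =>
    refine ⟨i, J, rfl, h1, by simpa using h2, fun P hP k hk => ?_⟩
    rcases hP with rfl | rfl
    · exact (h4 k hk).1
    · exact (h4 k hk).2

theorem kind_lt (g : Good D A) {P : ℕ → ℕ} (hP : Kind D A P) {i : ℕ} (hi : i < D.rank) :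
    P i < D.nroots := by
  rcases hP with rfl | rfl
  · exact g.simple_lt i hi
  · exact g.neg_lt _ (g.simple_lt i hi)

include τ in
theorem kind_r {P : ℕ → ℕ} (hP : Kind D A P) {i : ℕ} (hi : i < D.rank) :
    f.r (P i) = P (f.p i) := by
  rcases hP with rfl | rfl
  · exact τ.valid.r_simple i hi
  · exact τ.valid.r_negSimple i hi

theorem W_maps (G : Graph τ sgn σ d) {P : ℕ → ℕ} (hP : Kind D A P) : ∀ (J : List ℕ) (t : F),
    (∀ k ∈ J, k < D.rank ∧ sgn (P k) = 1) →
    τ.Maps (W h.good σ P J t) (W h.good σ P (J.map f.p) (σ t))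
  | [], t, _ => by simpa using τ.maps_one
  | i :: J, t, hJ => by
    obtain ⟨hi, hs⟩ := hJ i List.mem_cons_self
    have hlt := kind_lt h.good hP hi
    have h1 := τ.maps_xG hlt t
    rw [kind_r (τ := τ) hP hi, G.phi_fix hlt hs] at h1
    rw [List.map_cons, W_cons, W_cons]
    exact Twist.Maps.mul τ h1 (W_maps G hP J (σ t) fun k hk => hJ k (List.mem_cons_of_mem _ hk))

theorem W_append (g : Good D A) (P : ℕ → ℕ) : ∀ (J : List ℕ) (i : ℕ) (t : F),
    W g σ P (J ++ [i]) t = W g σ P J t * xG g (P i) (σ^[J.length] t)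
  | [], i, t => by simp [W_single]
  | k :: J, i, t => by
    simp only [List.cons_append, W_cons, W_append g P J i, List.length_cons, mul_assoc]
    rfl

theorem W_fix (G : Graph τ sgn σ d) {P : ℕ → ℕ} (hP : Kind D A P) {J : List ℕ}
    (hc : orbChk D A f sgn J = true) {t : F} (ht : Dom σ J t) : W h.good σ P J t ∈ τ.fix := by
  obtain ⟨i, J, rfl, hs, hcyc, hsgn⟩ := orbChk_cons hc
  have h1 := W_maps G hP (i :: J) t fun k hk => ⟨sep_lt hs k hk, hsgn P hP k hk⟩
  rw [hcyc, W_append, ← Function.iterate_succ_apply, Nat.succ_eq_add_one] at h1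
  rw [show σ^[J.length + 1] t = t from ht, ← (commute_xW h hP hP t (σ t) (sep_cons hs).2.1).eq] at h1
  rw [W_cons] at h1 ⊢
  exact h1

theorem N_fix (G : Graph τ sgn σ d) {J : List ℕ} (hc : orbChk D A f sgn J = true) {t : F}
    (ht : Dom σ J t) : N h.good σ J t ∈ τ.fix := by
  obtain ⟨i, J', rfl, hs, -, -⟩ := orbChk_cons hc
  rw [N_eq h hs]
  have ht' : Dom σ (i :: J') (-t⁻¹) := by
    show σ^[_] _ = _
    rw [← RingHom.coe_pow, map_neg, map_inv₀, RingHom.coe_pow, show σ^[(i :: J').length] t = t from ht]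
  exact mul_mem (mul_mem (W_fix G (Or.inl rfl) hc ht) (W_fix G (Or.inr rfl) hc ht'))
    (W_fix G (Or.inl rfl) hc ht)

/-- characters of fixed torus elements along the twist -/
theorem tor_step (G : Graph τ sgn σ d) {c : Fin D.rank → Fˣ} (hc : tor D A c ∈ τ.fix) {r : ℕ}
    (hr : r < D.nroots) (hs : sgn r = 1) : (chi D A c (f.r r) : F) = σ (chi D A c r) := by
  have g := h.good
  have h1 := Twist.Maps.mul τ (Twist.Maps.mul τ hc (τ.maps_xG hr 1)) (Twist.Maps.inv τ hc)
  rw [tor_conj_xG g c hr, G.phi_fix hr hs, map_one, tor_conj_xG g c (τ.valid.r_lt r hr)] at h1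
  have h2 := Twist.Maps.fun_eq τ h1 (τ.maps_xG hr _)
  rw [G.phi_fix hr hs, map_mul, map_one, mul_one, mul_one] at h2
  exact CfsgLib.KnownB.ChevField.xG_inj h (τ.valid.r_lt r hr) h2

theorem tor_W (G : Graph τ sgn σ d) {c : Fin D.rank → Fˣ} (hc : tor D A c ∈ τ.fix) {P : ℕ → ℕ}
    (hP : Kind D A P) : ∀ (i : ℕ) (J : List ℕ) (z : ℕ) (u : F), (i :: J).map f.p = J ++ [z] →
      (∀ k ∈ i :: J, k < D.rank ∧ sgn (P k) = 1) →
      tor D A c * W h.good σ P (i :: J) u * (tor D A c)⁻¹ =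
        W h.good σ P (i :: J) ((chi D A c (P i) : F) * u)
  | i, [], z, u, _, hJ => by
    rw [W_single, W_single, tor_conj_xG h.good c (kind_lt h.good hP (hJ i List.mem_cons_self).1)]
  | i, k :: J, z, u, e, hJ => by
    rw [List.map_cons, List.cons_append] at e
    obtain ⟨e1, e2⟩ := List.cons.inj e
    obtain ⟨hi, hs⟩ := hJ i List.mem_cons_self
    have hlt := kind_lt h.good hP hi
    have ih := tor_W G hc hP k J z (σ u) e2 fun m hm => hJ m (List.mem_cons_of_mem _ hm)
    have h1 : tor D A c * xG h.good (P i) u * (tor D A c)⁻¹ = _ := tor_conj_xG h.good c hlt u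
    rw [W_cons, W_cons h.good P i (k :: J) ((chi D A c (P i) : F) * u), ← h1, map_mul,
      ← tor_step G hc hlt hs, kind_r (τ := τ) hP hi, e1, ← ih]
    group

theorem chi_negS (g : Good D A) (c : Fin D.rank → Fˣ) {i : ℕ} (hi : i < D.rank) :
    chi D A c (negS D A i) = (chi D A c (D.simple i))⁻¹ := by
  rw [chi, chi, ← Finset.prod_inv_distrib]
  refine Finset.prod_congr rfl fun k _ => ?_
  rw [negS, g.cart_neg k k.isLt _ (g.simple_lt i hi), _root_.zpow_neg]

/-- the hypotheses on a family -/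
structure Fam (τ : Twist F h f) (sgn : ℕ → ℤ) (σ : F →+* F) (d : ℕ) (T : List FState) : Prop where
  G : Graph τ sgn σ d
  S : τ.Split T
  orb : ∀ j < f.num, orbChk D A f sgn (f.J j) = true
  wJ : ∀ j < f.num, f.w j = f.J j
  cls : ∀ j < f.num, ∀ y ∈ τ.V (f.w j), ∃ t, Dom σ (f.J j) t ∧ W h.good σ D.simple (f.J j) t = y
  top : ∃ e ∈ T, (∀ i < D.rank, ¬ D.IsPosRoot (wf A (f.flat e.word) (D.simple i))) ∧
    ∀ j < f.num, ∀ i ∈ f.J j, ∃ k ∈ f.J j, wf A (f.flat e.word) (negS D A i) = D.simple k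
  gen : τ.fix ≤ Subgroup.closure {y | ∃ j < f.num, ∃ t, Dom σ (f.J j) t ∧
    (y = W h.good σ D.simple (f.J j) t ∨ y = W h.good σ (negS D A) (f.J j) t)}
  add : addChk D A = true

theorem Fam.nJ_eq (X : Fam τ sgn σ d T) {j : ℕ} (hj : j < f.num) :
    τ.nJ j = N h.good σ (f.J j) 1 := by
  rw [N_one]; show nW F h.good (f.w j) = _; rw [X.wJ j hj]

theorem Dom.neg {J : List ℕ} {t : F} (ht : Dom σ J t) : Dom σ J (-t) := by
  show σ^[_] _ = _
  rw [← RingHom.coe_pow, map_neg, RingHom.coe_pow, show σ^[J.length] t = t from ht]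

theorem Dom.inv {J : List ℕ} {t : F} (ht : Dom σ J t) : Dom σ J t⁻¹ := by
  show σ^[_] _ = _
  rw [← RingHom.coe_pow, map_inv₀, RingHom.coe_pow, show σ^[J.length] t = t from ht]

theorem Dom.one (J : List ℕ) : Dom σ J 1 := by
  show σ^[_] _ = _
  rw [← RingHom.coe_pow, map_one]

theorem Dom.mul {J : List ℕ} {t u : F} (ht : Dom σ J t) (hu : Dom σ J u) : Dom σ J (t * u) := by
  show σ^[_] _ = _
  rw [← RingHom.coe_pow, map_mul, RingHom.coe_pow, show σ^[J.length] t = t from ht,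
    show σ^[J.length] u = u from hu]

theorem Dom.add {J : List ℕ} {t u : F} (ht : Dom σ J t) (hu : Dom σ J u) : Dom σ J (t + u) := by
  show σ^[_] _ = _
  rw [← RingHom.coe_pow, map_add, RingHom.coe_pow, show σ^[J.length] t = t from ht,
    show σ^[J.length] u = u from hu]

theorem Dom.zero (J : List ℕ) : Dom σ J 0 := by
  show σ^[_] _ = _
  rw [← RingHom.coe_pow, map_zero]

end CfsgLib.Chev.TwOut
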