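import Cfsg.Agent.Lib.Chev.TwSub.Basic
import Cfsg.Agent.Lib.KnownB.ChevAutField

/-!
The rank one subgroups of a twisted group: elements of an orbit of commuting fundamental roots.
-/

set_option autoImplicit false
set_option maxRecDepth 100000

namespace CfsgLib.Chev.TwOut

open Cfsg.Lie Matrix CfsgLib.Chev CfsgLib.KnownB.ChevField CfsgLib.KnownB.ChevAutThm CfsgLib.Chev.TwSub

variable {D : ChevalleyDatum} {A : Aux} {F : Type*} [Field F] {σ : F →+* F}

/-- orbit elements of the roots `P i`, `i ∈ J` -/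
noncomputable def W (g : Good D A) (σ : F →+* F) (P : ℕ → ℕ) (J : List ℕ) (t : F) : GL D.Idx F :=
  orbE g σ (J.map fun i => (P i, (1 : ℤ))) t

variable (D A) in
/-- the negative fundamental roots -/
noncomputable def negS (i : ℕ) : ℕ := A.neg (D.simple i)

/-- the monomial orbit element -/
noncomputable def N (g : Good D A) (σ : F →+* F) : List ℕ → F → GL D.Idx F
  | [], _ => 1
  | i :: J, t => nG g (D.simple i) t * N g σ J (σ t)

/-- the torus parameters of an orbit -/
noncomputable def hvec (D : ChevalleyDatum) (σ : F →+* F) : List ℕ → Fˣ → (Fin D.rank → Fˣ)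
  | [], _ => 1
  | i :: J, u => (if h : i < D.rank then Pi.mulSingle ⟨i, h⟩ u else 1) *
      hvec D σ J (Units.map σ.toMonoidHom u)

variable (D A) in
/-- two nodes without interaction -/
noncomputable def Apart (i k : ℕ) : Bool :=
  commPair D A (D.simple i) (D.simple k) && commPair D A (D.simple i) (negS D A k) &&
    commPair D A (negS D A i) (D.simple k) && commPair D A (negS D A i) (negS D A k) &&
    decide (A.chain (D.simple k) (negS D A i) = [] ∧ A.chain (negS D A k) (negS D A i) = [] ∧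
      negS D A i ≠ D.simple k ∧ negS D A i ≠ A.neg (D.simple k) ∧
      negS D A i ≠ A.neg (negS D A k) ∧ negS D A i ≠ negS D A k)

variable (D A) in
/-- a list of separated nodes -/
noncomputable def sep : List ℕ → Bool
  | [] => true
  | i :: J => decide (i < D.rank) && J.all (fun k => Apart D A i k) && sep J

theorem sep_cons {i : ℕ} {J : List ℕ} (hs : sep D A (i :: J) = true) :
    i < D.rank ∧ (∀ k ∈ J, Apart D A i k = true) ∧ sep D A J = true := by
  simp only [sep, Bool.and_eq_true, decide_eq_true_eq, List.all_eq_true] at hs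
  exact ⟨hs.1.1, hs.1.2, hs.2⟩

theorem sep_lt : ∀ {J : List ℕ}, sep D A J = true → ∀ i ∈ J, i < D.rank
  | [], _, _, h => absurd h List.not_mem_nil
  | _ :: _, hs, k, hk => by
    obtain ⟨h1, -, h3⟩ := sep_cons hs
    rcases List.mem_cons.1 hk with rfl | hk
    · exact h1
    · exact sep_lt h3 k hk

theorem W_cons (g : Good D A) (P : ℕ → ℕ) (i : ℕ) (J : List ℕ) (t : F) :
    W g σ P (i :: J) t = xG g (P i) t * W g σ P J (σ t) := by
  simp [W, orbE]

@[simp] theorem W_nil (g : Good D A) (P : ℕ → ℕ) (t : F) : W g σ P [] t = 1 := rfl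

theorem W_zero (g : Good D A) (P : ℕ → ℕ) (J : List ℕ) : W g σ P J 0 = 1 := orbE_zero g _

theorem W_single (g : Good D A) (P : ℕ → ℕ) (i : ℕ) (t : F) : W g σ P [i] t = xG g (P i) t := by
  rw [W_cons, W_nil, mul_one]

theorem W_map (g : Good D A) {φ : F →+* F} (hφ : ∀ x, φ (σ x) = σ (φ x)) (P : ℕ → ℕ) :
    ∀ (J : List ℕ) (t : F), Matrix.GeneralLinearGroup.map φ (W g σ P J t) = W g σ P J (φ t)
  | [], t => by simp
  | i :: J, t => by rw [W_cons, W_cons, map_mul, map_xG, W_map g hφ P J, hφ]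

/-- the two kinds of roots -/
def Kind (D : ChevalleyDatum) (A : Aux) (P : ℕ → ℕ) : Prop := P = D.simple ∨ P = negS D A

theorem commute_xW (h : Std D A) {i : ℕ} {P Q : ℕ → ℕ} (hP : Kind D A P) (hQ : Kind D A Q) (a : F) :
    ∀ {J : List ℕ} (t : F), (∀ k ∈ J, Apart D A i k = true) →
      Commute (xG h.good (P i) a) (W h.good σ Q J t)
  | [], _, _ => Commute.one_right _
  | k :: J, t, hA => by
    rw [W_cons]
    refine (CfsgLib.Chev.commute_xG h ?_ _ _).mul_right
      (commute_xW h hP hQ a _ fun m hm => hA m (List.mem_cons_of_mem _ hm))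
    have := hA k List.mem_cons_self
    simp only [Apart, Bool.and_eq_true] at this
    obtain ⟨⟨⟨⟨h1, h2⟩, h3⟩, h4⟩, -⟩ := this
    rcases hP with rfl | rfl <;> rcases hQ with rfl | rfl <;> assumption

theorem W_add (h : Std D A) {P : ℕ → ℕ} (hP : Kind D A P) : ∀ {J : List ℕ}, sep D A J = true →
    ∀ t u : F, W h.good σ P J t * W h.good σ P J u = W h.good σ P J (t + u)
  | [], _, t, u => by simp
  | i :: J, hs, t, u => by
    obtain ⟨-, h2, h3⟩ := sep_cons hs
    rw [W_cons, W_cons, W_cons, map_add, ← W_add h hP h3, ← xG_add]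
    have := (commute_xW (σ := σ) h hP hP u (σ t) h2).eq
    calc xG h.good (P i) t * W h.good σ P J (σ t) * (xG h.good (P i) u * W h.good σ P J (σ u))
        = xG h.good (P i) t * (W h.good σ P J (σ t) * xG h.good (P i) u) * W h.good σ P J (σ u) := by group
      _ = _ := by rw [← this]; group

theorem W_inv (h : Std D A) {P : ℕ → ℕ} (hP : Kind D A P) {J : List ℕ} (hs : sep D A J = true) (t : F) :
    (W h.good σ P J t)⁻¹ = W h.good σ P J (-t) :=
  inv_eq_of_mul_eq_one_right (by rw [W_add h hP hs, add_neg_cancel, W_zero])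

theorem N_eq (h : Std D A) : ∀ {J : List ℕ}, sep D A J = true → ∀ t : F,
    N h.good σ J t = W h.good σ D.simple J t * W h.good σ (negS D A) J (-t⁻¹) * W h.good σ D.simple J t
  | [], _, t => by simp [N]
  | i :: J, hs, t => by
    obtain ⟨hi, h2, h3⟩ := sep_cons hs
    rw [N, N_eq h h3, W_cons, W_cons, map_neg, map_inv₀]
    unfold nG
    rw [h.good.neg_eq _ (h.good.simple_lt i hi)]
    set a := xG h.good (D.simple i) t
    set b := xG h.good (A.neg (D.simple i)) (-t⁻¹)
    set U := W h.good σ D.simple J (σ t)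
    set V := W h.good σ (negS D A) J (-(σ t)⁻¹)
    have c1 : Commute b U := commute_xW h (Or.inr rfl) (Or.inl rfl) _ _ h2
    have c2 : Commute a U := commute_xW h (Or.inl rfl) (Or.inl rfl) _ _ h2
    have c3 : Commute a V := commute_xW h (Or.inl rfl) (Or.inr rfl) _ _ h2
    show a * b * a * (U * V * U) = a * U * (b * V) * (a * U)
    calc a * b * a * (U * V * U) = a * b * (a * U) * V * U := by group
      _ = a * (b * U) * a * V * U := by rw [c2.eq]; group
      _ = a * U * b * (a * V) * U := by rw [c1.eq]; group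
      _ = _ := by rw [c3.eq]; group

theorem N_one (g : Good D A) : ∀ J : List ℕ, N g σ J 1 = nW F g J
  | [] => by simp [N, nW]
  | i :: J => by rw [N, map_one, N_one g J]; simp [nW, nS]

theorem commute_xN (h : Std D A) {i : ℕ} {P : ℕ → ℕ} (hP : Kind D A P) (a : F) {J : List ℕ}
    (hJ : sep D A J = true) (t : F) (hA : ∀ k ∈ J, Apart D A i k = true) :
    Commute (xG h.good (P i) a) (N h.good σ J t) := by
  rw [N_eq h hJ]
  exact ((commute_xW h hP (Or.inl rfl) _ _ hA).mul_right (commute_xW h hP (Or.inr rfl) _ _ hA)).mul_right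
    (commute_xW h hP (Or.inl rfl) _ _ hA)

theorem commute_nW' (h : Std D A) {i : ℕ} (hi : i < D.rank) (c : F) {Q : ℕ → ℕ} (hQ : Kind D A Q)
    {J : List ℕ} (t : F) (hA : ∀ k ∈ J, Apart D A i k = true) :
    Commute (nG h.good (D.simple i) c) (W h.good σ Q J t) := by
  unfold nG
  rw [h.good.neg_eq _ (h.good.simple_lt i hi)]
  exact ((commute_xW h (Or.inl rfl) hQ _ _ hA).mul_left (commute_xW h (Or.inr rfl) hQ _ _ hA)).mul_left
    (commute_xW h (Or.inl rfl) hQ _ _ hA)

/-- the action of an orbit monomial on the orbit -/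
theorem N_conj (h : Std D A) : ∀ {J : List ℕ}, sep D A J = true → ∀ {t : F}, t ≠ 0 → ∀ u : F,
    N h.good σ J t * W h.good σ D.simple J u * (N h.good σ J t)⁻¹ =
      W h.good σ (negS D A) J (-((t ^ 2)⁻¹ * u))
  | [], _, t, _, u => by simp [N]
  | i :: J, hs, t, ht, u => by
    obtain ⟨hi, h2, h3⟩ := sep_cons hs
    have g := h.good
    rw [N, W_cons, W_cons, map_neg, map_mul, map_inv₀, map_pow,
      ← N_conj h h3 (by simpa using ht : σ t ≠ 0) (σ u)]
    set n := nG g (D.simple i) t
    set R := N g σ J (σ t)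
    set S := W g σ D.simple J (σ u)
    have hp := g.simple_lt i hi
    have hn : n * xG g (D.simple i) u * n⁻¹ = xG g (negS D A i) (-((t ^ 2)⁻¹ * u)) := by
      have ec : A.cart i (A.neg (D.simple i)) = -2 := by rw [g.cart_neg i hi _ hp, g.cart_simple i hi]
      show nG g (D.simple i) t * _ * (nG g (D.simple i) t)⁻¹ = _
      rw [nG_eq_hG g hp, show nG g (D.simple i) (1 : F) = nS F g i from rfl,
        show hG g (D.simple i) t * nS F g i * xG g (D.simple i) u * (hG g (D.simple i) t * nS F g i)⁻¹ =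
          hG g (D.simple i) t * (nS F g i * xG g (D.simple i) u * (nS F g i)⁻¹) * (hG g (D.simple i) t)⁻¹ by
          group, nS_conj_simple g hi, show hG g (D.simple i) t = hG g (D.simple i) (Units.mk0 t ht : F) from rfl,
        show i = (⟨i, hi⟩ : Fin D.rank).val from rfl, hG_simple g, tor_conj_xG g _ (g.neg_lt _ hp),
        chi_single g, ec, Units.val_zpow_eq_zpow_val, Units.val_mk0, _root_.zpow_neg, zpow_ofNat]
      congr 1; ring
    have cR : Commute (xG g (D.simple i) u) R := commute_xN h (Or.inl rfl) _ h3 _ h2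
    have cS : Commute n (R * S * R⁻¹) := by
      rw [N_conj h h3 (by simpa using ht : σ t ≠ 0) (σ u)]
      exact commute_nW' h hi t (Or.inr rfl) _ h2
    calc n * R * (xG g (D.simple i) u * S) * (n * R)⁻¹
        = n * (R * xG g (D.simple i) u) * S * R⁻¹ * n⁻¹ := by group
      _ = n * xG g (D.simple i) u * ((R * S * R⁻¹) * n⁻¹) := by rw [← cR.eq]; group
      _ = n * xG g (D.simple i) u * (n⁻¹ * (R * S * R⁻¹)) := by rw [cS.inv_left.eq]
      _ = _ := by rw [← mul_assoc, hn]

theorem N_monomial (h : Std D A) : ∀ {J : List ℕ}, sep D A J = true → ∀ {t : F}, t ≠ 0 →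
    ∃ d, N h.good σ J t = tor D A d * nW F h.good J
  | [], _, t, _ => ⟨1, by simp [N, nW]⟩
  | i :: J, hs, t, ht => by
    obtain ⟨hi, -, h3⟩ := sep_cons hs
    have g := h.good
    obtain ⟨d, hd⟩ := N_monomial h h3 (by simpa using ht : σ t ≠ 0)
    obtain ⟨d', hd'⟩ := monomial_conj_tor g (nS_mem_monomial g hi) d
    refine ⟨Pi.mulSingle ⟨i, hi⟩ (Units.mk0 t ht) * d', ?_⟩
    rw [N, hd, map_mul, ← hd', ← hG_simple g ⟨i, hi⟩, Units.val_mk0, nG_eq_hG g (g.simple_lt i hi),
      show nG g (D.simple i) (1 : F) = nS F g i from rfl]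
    simp only [nW, List.map_cons, List.prod_cons]
    group

theorem h_eq (h : Std D A) : ∀ {J : List ℕ}, sep D A J = true → ∀ u : Fˣ,
    (tor D A (hvec D σ J u) : GL D.Idx F) = N h.good σ J (u : F) * N h.good σ J (-1)
  | [], _, u => by simp [N, hvec]
  | i :: J, hs, u => by
    obtain ⟨hi, h2, h3⟩ := sep_cons hs
    have g := h.good
    rw [hvec, dif_pos hi, map_mul, h_eq h h3, ← hG_simple g ⟨i, hi⟩, N, N, map_neg, map_one]
    have c : Commute (nG g (D.simple i) (-1 : F)) (N g σ J (σ (u : F))) := by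
      rw [N_eq h h3]
      exact ((commute_nW' h hi _ (Or.inl rfl) _ h2).mul_right (commute_nW' h hi _ (Or.inr rfl) _ h2)).mul_right
        (commute_nW' h hi _ (Or.inl rfl) _ h2)
    show hG g (D.simple i) (u : F) * (N g σ J ((Units.map σ.toMonoidHom u : Fˣ) : F) * _) = _
    rw [hG]
    calc nG g (D.simple i) (u : F) * nG g (D.simple i) (-1) * (N g σ J (σ (u : F)) * N g σ J (-1))
        = nG g (D.simple i) (u : F) * (nG g (D.simple i) (-1) * N g σ J (σ (u : F))) * N g σ J (-1) := by
          group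
      _ = _ := by rw [c.eq]; group

/-- evaluation of the negative root vector -/
noncomputable def evN (D : ChevalleyDatum) (A : Aux) (F : Type*) [Field F] (i : ℕ) : D.Idx → F :=
  ev D F (D.rank + A.neg (D.simple i))

theorem W_fix_ev (h : Std D A) {i : ℕ} (hi : i < D.rank) {Q : ℕ → ℕ} (hQ : Kind D A Q) :
    ∀ {J : List ℕ}, (∀ k ∈ J, Apart D A i k = true) → ∀ t : F,
      (W h.good σ Q J t : Matrix D.Idx D.Idx F) *ᵥ evN D A F i = evN D A F i
  | [], _, t => by simp
  | k :: J, hA, t => by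
    have g := h.good
    rw [W_cons, Units.val_mul, ← Matrix.mulVec_mulVec,
      W_fix_ev h hi hQ (fun m hm => hA m (List.mem_cons_of_mem _ hm)), xG_val]
    have := hA k List.mem_cons_self
    simp only [Apart, Bool.and_eq_true, decide_eq_true_eq] at this
    obtain ⟨⟨⟨⟨-, -⟩, h3⟩, h4⟩, c1, c2, n1, n2, n3, n4⟩ := this
    have hn : negS D A i < D.nroots := g.neg_lt _ (g.simple_lt i hi)
    have hQk : Q k < D.nroots ∧ A.chain (Q k) (negS D A i) = [] ∧ negS D A i ≠ Q k ∧
        negS D A i ≠ A.neg (Q k) := by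
      simp only [commPair, Bool.and_eq_true, decide_eq_true_eq] at h3 h4
      rcases hQ with rfl | rfl
      · exact ⟨h3.1.2, c1, n1, n2⟩
      · exact ⟨h4.1.2, c2, n4, n3⟩
    obtain ⟨hlt, hc, h1, h2⟩ := hQk
    show D.x F (Q k) t *ᵥ ev D F (D.rank + negS D A i) = ev D F (D.rank + negS D A i)
    rw [x_mulVec_chain g hlt hn h1 h2 t, hc]
    simp

theorem W_eq_one (h : Std D A) {P : ℕ → ℕ} {i : ℕ} {J : List ℕ} (hs : sep D A (i :: J) = true)
    (hP : Kind D A P) {t : F} (e : W h.good σ P (i :: J) t = 1) : t = 0 := by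
  obtain ⟨hi, h2, h3⟩ := sep_cons hs
  have g := h.good
  have key : ∀ t : F, W g σ D.simple (i :: J) t = 1 → t = 0 := by
    intro t e
    have hev : ((W g σ D.simple (i :: J) t : Matrix D.Idx D.Idx F) *ᵥ evN D A F i) (Sum.inl ⟨i, hi⟩) =
        evN D A F i (Sum.inl ⟨i, hi⟩) := by rw [e, Units.val_one, Matrix.one_mulVec]
    have hp := g.simple_lt i hi
    rw [W_cons, Units.val_mul, ← Matrix.mulVec_mulVec, W_fix_ev h hi (Or.inl rfl) h2, xG_val, evN,
      x_mulVec_neg g hp] at hev
    simp [ev, idx, hsum_inl, show i ≠ D.rank + D.simple i by omega,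
      show i ≠ D.rank + A.neg (D.simple i) by omega,
      show A.coro (D.simple i) i = 1 by simp [g.coro_simple i hi i hi]] at hev
    exact hev
  rcases hP with rfl | rfl
  · exact key t e
  · have h1 := N_conj (σ := σ) h hs (one_ne_zero (α := F)) (-t)
    rw [one_pow, inv_one, one_mul, neg_neg, e, conj_eq_one_iff] at h1
    exact neg_eq_zero.1 (key _ h1)

theorem W_inj (h : Std D A) {P : ℕ → ℕ} {i : ℕ} {J : List ℕ} (hs : sep D A (i :: J) = true)
    (hP : Kind D A P) {t u : F} (e : W h.good σ P (i :: J) t = W h.good σ P (i :: J) u) : t = u := by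
  refine sub_eq_zero.1 (W_eq_one (σ := σ) h hs hP ?_)
  rw [sub_eq_add_neg, ← W_add h hP hs, ← W_inv h hP hs, e, mul_inv_cancel]

/-- an opposite root element conjugated to the same root subgroup -/
theorem opp_trivial (h : Std D A) {i : ℕ} {J : List ℕ} (hs : sep D A (i :: J) = true) {d s e : F}
    (hs0 : s ≠ 0)
    (he : W h.good σ D.simple (i :: J) d * W h.good σ (negS D A) (i :: J) s =
      W h.good σ (negS D A) (i :: J) e * W h.good σ D.simple (i :: J) d) : d = 0 := by
  obtain ⟨hi, h2, h3⟩ := sep_cons hs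
  have g := h.good
  set p := D.simple i
  have hp := g.simple_lt i hi
  have hn := g.neg_lt p hp
  have hnn : A.neg (A.neg p) = p := g.neg_neg p hp
  simp only [W_cons] at he
  set Rd := W g σ D.simple J (σ d)
  set Rs := W g σ (negS D A) J (σ s)
  set Re := W g σ (negS D A) J (σ e)
  rw [show xG g (D.simple i) d * Rd * (xG g (negS D A i) s * Rs) =
      xG g (D.simple i) d * (Rd * xG g (negS D A i) s) * Rs by group,
    ← (commute_xW h (Or.inr rfl) (Or.inl rfl) _ _ h2).eq,
    show xG g (negS D A i) e * Re * (xG g (D.simple i) d * Rd) =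
      xG g (negS D A i) e * (Re * xG g (D.simple i) d) * Rd by group,
    ← (commute_xW h (Or.inl rfl) (Or.inr rfl) _ _ h2).eq] at he
  have hev := congrArg (fun y : GL D.Idx F => (y : Matrix D.Idx D.Idx F) *ᵥ evN D A F i) he
  simp only [Units.val_mul, ← Matrix.mulVec_mulVec, Rd, Rs, Re, W_fix_ev h hi (Or.inl rfl) h2,
    W_fix_ev h hi (Or.inr rfl) h2] at hev
  simp only [evN] at hev
  have hval := congrFun hev (Sum.inl ⟨i, hi⟩)
  simp only [xG_val, negS, show D.simple i = p from rfl] at hval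
  simp only [x_mulVec_self g hn, x_mulVec_neg g (r := p) hp] at hval
  have hh : ∀ j < D.rank, D.x F (A.neg p) e *ᵥ ev D F j =
      ev D F j + (-(A.cart j (A.neg p) : F) * e) • ev D F (D.rank + A.neg p) :=
    fun j hj => x_mulVec_h g hn e hj
  have hsi : (hsum D F A p) (Sum.inl ⟨i, hi⟩) = 1 := by
    simp [hsum_inl, show A.coro p i = 1 by simp [p, g.coro_simple i hi i hi]]
  have e1 : (D.x F (A.neg p) e *ᵥ hsum D F A p) (Sum.inl ⟨i, hi⟩) = 1 := by
    rw [hsum, Matrix.mulVec_sum, Finset.sum_apply, Finset.sum_eq_single i]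
    · rw [Matrix.mulVec_smul, hh i hi, g.coro_simple i hi i hi]
      simp [ev, idx, show i ≠ D.rank + A.neg p by omega]
    · intro j hj hji
      rw [g.coro_simple i hi j (Finset.mem_range.1 hj), if_neg hji]
      simp
    · simp [hi]
  have e2 : (D.x F (A.neg p) e *ᵥ ev D F (D.rank + p)) (Sum.inl ⟨i, hi⟩) = -e := by
    have := congrFun (x_mulVec_neg (F := F) g hn e) (Sum.inl ⟨i, hi⟩)
    rw [hnn] at this
    rw [this]
    simp [ev, idx, hsum_inl, show i ≠ D.rank + A.neg p by omega,
      show i ≠ D.rank + p by omega, g.coro_neg p hp, show A.coro p i = 1 by simp [p, g.coro_simple i hi i hi]]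
  simp only [Matrix.mulVec_add, Matrix.mulVec_smul, Pi.add_apply, Pi.smul_apply, smul_eq_mul, e1,
    e2, x_mulVec_self g hn] at hval
  simp [ev, idx, show i ≠ D.rank + A.neg p by omega, show i ≠ D.rank + p by omega, hsi] at hval
  have hd : e = 0 ∨ d = 0 := by tauto
  rcases hd with rfl | h0
  · exfalso
    simp only [Re, map_zero, W_zero, mul_one, xG_zero, one_mul] at he
    have e' : xG g (negS D A i) s * Rd * Rs = Rd := by
      refine mul_left_cancel (a := xG g p d) (Eq.trans ?_ he)
      group; rfl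
    rw [(commute_xW h (Or.inr rfl) (Or.inl rfl) _ _ h2).eq, mul_assoc, mul_eq_left] at e'
    exact hs0 (W_eq_one h hs (Or.inr rfl) (by rw [W_cons]; exact e'))
  · exact h0

end CfsgLib.Chev.TwOut
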