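import Cfsg.Agent.Lib.Chev.TwOut.UV

/-!
An automorphism of the fixed points permutes the relative fundamental root subgroups up to an inner automorphism.
-/

set_option autoImplicit false
set_option linter.style.haveILetI false
set_option maxRecDepth 100000

namespace CfsgLib.Chev.TwOut

open Cfsg.Lie Matrix CfsgLib.Chev CfsgLib.KnownB.ChevField CfsgLib.KnownB.ChevAutThm CfsgLib.Chev.TwSub

variable {D : ChevalleyDatum} {A : Aux} {F : Type*} [Field F] {h : Std D A} {f : Fold}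
  {τ : Twist F h f} {sgn : ℕ → ℤ} {σ : F →+* F} {d : ℕ} {T : List FState}

/-- an orbit element in the fixed group -/
noncomputable def wS (X : Fam τ sgn σ d T) {P : ℕ → ℕ} (hP : Kind D A P) (j : Fin f.num) {t : F}
    (ht : Dom σ (f.J j) t) : ↥τ.fix :=
  ⟨W h.good σ P (f.J j) t, W_fix X.G hP (X.orb j j.isLt) ht⟩

theorem wS_inj (X : Fam τ sgn σ d T) {P : ℕ → ℕ} (hP : Kind D A P) (j : Fin f.num) {t u : F}
    (e : W h.good σ P (f.J j) t = W h.good σ P (f.J j) u) : t = u := by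
  obtain ⟨i, J, hJ, hs, -, -⟩ := orbChk_cons (X.orb j j.isLt)
  rw [hJ] at e
  exact W_inj h hs hP e

/-- the distinguished generator -/
noncomputable def sJ (τ : Twist F h f) (j : Fin f.num) : ↥τ.fix := ⟨τ.nJ j, τ.nJ_fix j.isLt⟩

theorem sJ_mem (X : Fam τ sgn σ d T) (j : Fin f.num) : sJ τ j ∈ X.S.pair.S := ⟨j, j.isLt, rfl⟩

/-- elements of the opposite unipotent part in a minimal parabolic subgroup -/
theorem neg_in_parabolic (X : Fam τ sgn σ d T) (j : Fin f.num) {y : ↥τ.fix}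
    (hy : y ∈ X.S.pair.parabolic {sJ τ j}) (hV : (y : GL D.Idx F) ∈ D.negUnipotent F) :
    ∃ t, Dom σ (f.J j) t ∧ (y : GL D.Idx F) = W h.good σ (negS D A) (f.J j) t := by
  have g := h.good
  have hy' : y ∈ (SetLike.coe X.S.pair.B) ∪ BN.cell X.S.pair (sJ τ j) := by
    rw [← BN.parabolic_singleton (sJ_mem X j)]
    exact hy
  rcases hy' with hB | hC
  · exact ⟨0, Dom.zero _, by
      rw [W_zero]
      exact Subgroup.mem_bot.1 ((borel_inf_negUnipotent h).le
        (Subgroup.mem_inf.2 ⟨(Subgroup.mem_subgroupOf.1 hB).1, hV⟩))⟩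
  obtain ⟨b, hb, b', hb', ey⟩ := BN.mem_cell.1 hC
  obtain ⟨u, hu, c, hc, e, he, v, hv, eN⟩ := τ.fix_decomp X.S.tab y.2
  have hl := X.S.tab.letters e he
  have hw := τ.valid.flat_letters hl
  set n := nW F g (f.flat e.word)
  have hnJ : τ.nJ j ∈ D.monomialSubgroup F := τ.nJ_mem_monomial j.isLt
  have hd : (τ.nJ j)⁻¹ * n ∈ D.diagonalSubgroup F :=
    bruhat_unique h (Subgroup.mem_subgroupOf.1 hb).1 (Subgroup.mem_subgroupOf.1 hb').1
      (mul_mem (pos_le_borel hu.1) (diag_le_borel hc.1)) (pos_le_borel (τ.V_le_pos _ hv).1) hnJ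
      (nW_mem g hw) (by rw [← eN, ey]; rfl)
  have hd' := hd
  rw [diagonalSubgroup_eq g] at hd'
  obtain ⟨d', ed⟩ := hd'
  have hsame : SameOn D (wf A (f.flat e.word)) (wf A (f.w j)) := fun r hr => by
    have h1 := (τ.nJ_acts j.isLt).mul (acts_tor g d')
    rw [ed, mul_inv_cancel_left] at h1
    exact (nW_acts g hw).unique h1 hr
  rw [τ.V_congr hsame] at hv
  obtain ⟨t, ht, rfl⟩ := X.cls j j.isLt v hv
  obtain ⟨d'', ed''⟩ := monomial_conj_tor g hnJ d'
  have eN' : (y : GL D.Idx F) = u * c * tor D A d'' * (τ.nJ j * W g σ D.simple (f.J j) t) := by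
    rw [eN, ← ed'', ed]; group
  have hbB : u * c * tor D A d'' ∈ D.borelSubgroup F :=
    mul_mem (mul_mem (pos_le_borel hu.1) (diag_le_borel hc.1)) (tor_mem_borel g _)
  rw [eN'] at hV ⊢
  set b₁ := u * c * tor D A d''
  obtain ⟨i, J', hJ, hs, -, -⟩ := orbChk_cons (X.orb j j.isLt)
  by_cases h0 : t = 0
  · exfalso
    rw [h0, W_zero, mul_one] at hV
    obtain ⟨n₀, hn₀, σ₀, hσ₀, hw₀⟩ := exists_longest (F := F) g
    rw [← longest_conj g hσ₀ hw₀] at hV
    obtain ⟨u', hu', eu⟩ := hV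
    simp only [MulEquiv.coe_toMonoidHom, MulAut.conj_apply] at eu
    have e2 : b₁ * (τ.nJ j * n₀) * 1 = 1 * n₀ * u' := by
      rw [mul_one, one_mul, ← mul_assoc b₁, ← eu]; group
    have h1 := bruhat_unique h hbB (one_mem _) (one_mem _) (pos_le_borel hu')
      (mul_mem hnJ hn₀) hn₀ e2
    rw [diagonalSubgroup_eq g] at h1
    obtain ⟨w, hw'⟩ := h1
    obtain ⟨w', hw''⟩ := monomial_conj_tor g hn₀ w⁻¹
    have h2 : τ.nJ j = tor D A w' := by rw [← hw'', map_inv, hw']; group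
    have hij : i ∈ f.J j := by rw [hJ]; exact List.mem_cons_self
    obtain ⟨h3, h4⟩ := Fold.Valid.simple_mem g τ.valid j.isLt hij
    refine h4 ?_
    have h5 : wf A (f.w j) (D.simple i) = D.simple i :=
      (τ.nJ_acts j.isLt).unique (h2 ▸ acts_tor g w') h3.1
    rw [h5]; exact h3
  refine ⟨t⁻¹, ht.inv, ?_⟩
  rw [hJ] at ht ⊢ hV
  have hJ' : N g σ (i :: J') 1 = τ.nJ j := by rw [X.nJ_eq j.isLt, hJ]
  have ht1 : -t ≠ 0 := neg_ne_zero.2 h0
  obtain ⟨a, ha⟩ := N_monomial (σ := σ) h hs ht1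
  obtain ⟨a1, ha1⟩ := N_monomial (σ := σ) h hs (one_ne_zero (α := F))
  have hrk : τ.nJ j * W g σ D.simple (i :: J') t =
      (tor D A a1 * (tor D A a)⁻¹) * (W g σ D.simple (i :: J') (-t) * W g σ (negS D A) (i :: J') t⁻¹) := by
    have h2 : N g σ (i :: J') (-t) * W g σ D.simple (i :: J') t =
        W g σ D.simple (i :: J') (-t) * W g σ (negS D A) (i :: J') t⁻¹ := by
      rw [N_eq h hs, inv_neg, neg_neg, mul_assoc, W_add h (Or.inl rfl) hs, neg_add_cancel, W_zero, mul_one]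
    rw [← h2, ← hJ', ha1, ha]
    group
  rw [hrk, ← mul_assoc, ← mul_assoc] at hV ⊢
  set q := b₁ * (tor D A a1 * (tor D A a)⁻¹) * W g σ D.simple (i :: J') (-t)
  have hWU : ∀ x, W g σ D.simple (i :: J') x ∈ D.posUnipotent F := by
    have key : ∀ (J : List ℕ) x, (∀ k ∈ J, k < D.rank) → W g σ D.simple J x ∈ D.posUnipotent F := by
      intro J
      induction J with
      | nil => intro x _; exact one_mem _
      | cons k J ih =>
        intro x hk
        rw [W_cons]
        exact mul_mem (xG_mem_posUnipotent g (simple_pos g (hk k List.mem_cons_self)) _)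
          (ih _ fun m hm => hk m (List.mem_cons_of_mem _ hm))
    exact fun x => key _ x (sep_lt hs)
  have hWV : ∀ x, W g σ (negS D A) (i :: J') x ∈ D.negUnipotent F := by
    have key : ∀ (J : List ℕ) x, (∀ k ∈ J, k < D.rank) → W g σ (negS D A) J x ∈ D.negUnipotent F := by
      intro J
      induction J with
      | nil => intro x _; exact one_mem _
      | cons k J ih =>
        intro x hk
        rw [W_cons]
        exact mul_mem (xG_mem_negUnipotent g (isNeg_of_not_pos g (g.neg_lt _ (g.simple_lt k (hk k List.mem_cons_self)))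
          fun hq => not_pos_neg g (simple_pos g (hk k List.mem_cons_self)) hq) _)
          (ih _ fun m hm => hk m (List.mem_cons_of_mem _ hm))
    exact fun x => key _ x (sep_lt hs)
  have hq : q = 1 := by
    refine Subgroup.mem_bot.1 ((borel_inf_negUnipotent h).le (Subgroup.mem_inf.2 ⟨?_, ?_⟩))
    · exact mul_mem (mul_mem hbB (mul_mem (tor_mem_borel g _) (inv_mem (tor_mem_borel g _))))
        (pos_le_borel (hWU _))
    · have := mul_mem hV (inv_mem (hWV t⁻¹))
      rwa [mul_inv_cancel_right] at this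
  rw [hq, one_mul]

theorem W_pos_mem (X : Fam τ sgn σ d T) (j : Fin f.num) (t : F) :
    W h.good σ D.simple (f.J j) t ∈ UP F h.good (toNeg D (wf A (f.w j))) := by
  have g := h.good
  have key : ∀ (J : List ℕ) x, (∀ k ∈ J, k ∈ f.J j) →
      W g σ D.simple J x ∈ UP F g (toNeg D (wf A (f.w j))) := by
    intro J
    induction J with
    | nil => intro x _; exact one_mem _
    | cons k J ih =>
      intro x hk
      rw [W_cons]
      refine mul_mem (xG_mem_UP g (P := toNeg D (wf A (f.w j))) ?_ _) (ih _ fun m hm => hk m (List.mem_cons_of_mem _ hm))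
      obtain ⟨h1, h2⟩ := Fold.Valid.simple_mem g τ.valid j.isLt (hk k List.mem_cons_self)
      exact ⟨h1, isNeg_of_not_pos g (wf_lt g (τ.valid.letters j.isLt) h1.1) h2⟩
  exact key _ t fun k hk => hk

theorem neg_mem_parabolic (X : Fam τ sgn σ d T) (j : Fin f.num) {t : F} (ht : Dom σ (f.J j) t) :
    wS X (Or.inr rfl) j ht ∈ X.S.pair.parabolic {sJ τ j} := by
  have g := h.good
  have hs : sJ τ j ∈ X.S.pair.parabolic {sJ τ j} :=
    (le_sup_right : _ ≤ X.S.pair.parabolic {sJ τ j}) (Subgroup.subset_closure rfl)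
  have hx : wS X (Or.inl rfl) j ht.neg ∈ X.S.pair.parabolic {sJ τ j} :=
    (le_sup_left : X.S.pair.B ≤ X.S.pair.parabolic {sJ τ j}) (Subgroup.mem_subgroupOf.2
      ⟨pos_le_borel (UP_toNeg_le g _ (W_pos_mem X j _)), (wS X (Or.inl rfl) j ht.neg).2⟩)
  have e : wS X (Or.inr rfl) j ht = sJ τ j * wS X (Or.inl rfl) j ht.neg * (sJ τ j)⁻¹ := by
    refine Subtype.ext ?_
    show W g σ (negS D A) (f.J j) t = τ.nJ j * W g σ D.simple (f.J j) (-t) * (τ.nJ j)⁻¹
    obtain ⟨i, J', hJ, hsep, -, -⟩ := orbChk_cons (X.orb j j.isLt)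
    rw [X.nJ_eq j.isLt, hJ, N_conj h hsep one_ne_zero]
    simp
  rw [e]
  exact mul_mem (mul_mem hs hx) (inv_mem hs)

theorem W_neg_mem (X : Fam τ sgn σ d T) (j : Fin f.num) {t : F} :
    W h.good σ (negS D A) (f.J j) t ∈ D.negUnipotent F := by
  have g := h.good
  have key : ∀ (J : List ℕ) x, (∀ k ∈ J, k < D.rank) → W g σ (negS D A) J x ∈ D.negUnipotent F := by
    intro J
    induction J with
    | nil => intro x _; exact one_mem _
    | cons k J ih =>
      intro x hk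
      rw [W_cons]
      exact mul_mem (xG_mem_negUnipotent g (isNeg_of_not_pos g (g.neg_lt _ (g.simple_lt k (hk k List.mem_cons_self)))
        fun hq => not_pos_neg g (simple_pos g (hk k List.mem_cons_self)) hq) _)
        (ih _ fun m hm => hk m (List.mem_cons_of_mem _ hm))
  exact key _ t fun k hk => τ.valid.J_lt j j.isLt k hk

/-- the opposite root subgroups of two nodes commute -/
def NegComm (σ : F →+* F) (g : Good D A) (f : Fold) (a b : Fin f.num) : Prop :=
  ∀ t u, Dom σ (f.J a) t → Dom σ (f.J b) u →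
    Commute (W g σ (negS D A) (f.J a) t) (W g σ (negS D A) (f.J b) u)

/-- the permutations of the nodes compatible with orders and commutation are trivial -/
def Rigid (σ : F →+* F) (g : Good D A) (f : Fold) : Prop :=
  ∀ π : Equiv.Perm (Fin f.num),
    (∀ j, Nat.card {t // Dom σ (f.J (π j : Fin f.num)) t} = Nat.card {t // Dom σ (f.J (j : Fin f.num)) t}) →
    (∀ a b, NegComm σ g f a b → NegComm σ g f (π a) (π b)) → π = 1

/-- an automorphism fixing both unipotent parts fixes the opposite fundamental root subgroups -/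
theorem exists_neg [Finite F] (X : Fam τ sgn σ d T) (R : Rigid σ h.good f) {θ : MulAut ↥τ.fix}
    (hU : Keeps θ (D.posUnipotent F)) (hV : Keeps θ (D.negUnipotent F)) :
    ∀ (j : Fin f.num) (t : F) (ht : Dom σ (f.J j) t), ∃ c, Dom σ (f.J j) c ∧
      (θ (wS X (Or.inr rfl) j ht) : GL D.Idx F) = W h.good σ (negS D A) (f.J j) c := by
  classical
  have g := h.good
  haveI := Fintype.ofFinite F
  haveI : Finite (GL D.Idx F) := finite_GL
  set P := X.S.pair
  have hBmem : ∀ y : ↥τ.fix, y ∈ P.B ↔ ∀ u : ↥τ.fix,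
      (u : GL D.Idx F) ∈ D.posUnipotent F → ((y * u * y⁻¹ : ↥τ.fix) : GL D.Idx F) ∈ D.posUnipotent F := by
    intro y
    refine ⟨fun hy u hu => borel_conj_pos g (Subgroup.mem_subgroupOf.1 hy).1 hu, fun hy => ?_⟩
    exact Subgroup.mem_subgroupOf.2 ⟨mem_borel_of_norm X y.2 fun u hu => hy ⟨u, hu.2⟩ hu.1, y.2⟩
  have hBθ : ∀ y, θ y ∈ P.B ↔ y ∈ P.B := by
    intro y
    rw [hBmem, hBmem]
    constructor
    · intro hy u hu
      have := hy (θ u) ((hU u).2 hu)
      rwa [← map_inv, ← map_mul, ← map_mul, hU] at this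
    · intro hy u hu
      obtain ⟨u, rfl⟩ := θ.surjective u
      rw [← map_inv, ← map_mul, ← map_mul, hU]
      exact hy u ((hU u).1 hu)
  let Pi : Fin f.num → Subgroup ↥τ.fix := fun i => P.parabolic {sJ τ i}
  have hgens : ∀ i, BN.gens P (Pi i) = {sJ τ i} := fun i =>
    BN.gens_parabolic (by simpa using sJ_mem X i)
  have hmem : ∀ i, sJ τ i ∈ Pi i := fun i =>
    (le_sup_right : _ ≤ Pi i) (Subgroup.subset_closure rfl)
  have key : ∀ i, ∃ j, (Pi i).map θ.toMonoidHom = Pi j := by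
    intro i
    set M := (Pi i).map θ.toMonoidHom
    have hBM : P.B ≤ M := fun y hy => by
      obtain ⟨z, rfl⟩ := θ.surjective y
      exact ⟨z, (le_sup_left : P.B ≤ Pi i) ((hBθ z).1 hy), rfl⟩
    obtain ⟨s, hs⟩ : (BN.gens P M).Nonempty := by
      rw [Set.nonempty_iff_ne_empty]
      intro he
      have hM := BN.eq_parabolic_of_le hBM
      rw [he, Cfsg.BNPair.parabolic, Subgroup.closure_empty, sup_bot_eq] at hM
      exact BN.not_mem_B (sJ_mem X i) ((hBθ _).1 (hM ▸ ⟨_, hmem i, rfl⟩ : θ (sJ τ i) ∈ P.B))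
    obtain ⟨j, hj, hsj⟩ := hs.1
    obtain rfl : s = sJ τ ⟨j, hj⟩ := Subtype.ext hsj
    refine ⟨⟨j, hj⟩, ?_⟩
    set j' : Fin f.num := ⟨j, hj⟩
    have hjM : Pi j' ≤ M := sup_le hBM ((Subgroup.closure_le _).2 (by simpa using hs.2))
    set K := (Pi j').comap θ.toMonoidHom
    have hBK : P.B ≤ K := fun y hy => (le_sup_left : P.B ≤ Pi j') ((hBθ y).2 hy)
    have hKi : K ≤ Pi i := fun y hy => by
      obtain ⟨z, hz, e⟩ := hjM hy
      obtain rfl := θ.injective e
      exact hz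
    have hgK : BN.gens P K = {sJ τ i} := by
      refine (Set.subset_singleton_iff_eq.1 fun x hx => ?_).resolve_left fun he => ?_
      · rw [← hgens i]; exact ⟨hx.1, hKi hx.2⟩
      · have hK := BN.eq_parabolic_of_le hBK
        rw [he, Cfsg.BNPair.parabolic, Subgroup.closure_empty, sup_bot_eq] at hK
        obtain ⟨z, hz⟩ := θ.surjective (sJ τ j')
        have hzK : z ∈ K := by rw [Subgroup.mem_comap]; exact hz.symm ▸ hmem j'
        rw [hK] at hzK
        exact BN.not_mem_B (sJ_mem X j') (hz ▸ (hBθ z).2 hzK)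
    have hKeq : K = Pi i := by rw [BN.eq_parabolic_of_le hBK, hgK]
    show (Pi i).map θ.toMonoidHom = Pi j'
    rw [← hKeq, Subgroup.map_comap_eq_self_of_surjective θ.surjective]
  choose π hπ using key
  have hinj : Function.Injective π := by
    intro a b e
    have h1 : Pi a = Pi b := Subgroup.map_injective θ.injective (by rw [hπ, hπ, e])
    have h2 := congrArg (BN.gens P) h1
    rw [hgens, hgens, Set.singleton_eq_singleton_iff] at h2
    have h3 : τ.nJ a = τ.nJ b := congrArg Subtype.val h2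
    exact Fin.ext (X.S.nJ_inj a.isLt b.isLt (by rw [h3, inv_mul_cancel]; exact one_mem _))
  set πe := Equiv.ofBijective π (Finite.injective_iff_bijective.1 hinj)
  have himg : ∀ (j : Fin f.num) (t : {t // Dom σ (f.J j) t}), ∃ c : {t // Dom σ (f.J (πe j : Fin f.num)) t},
      (θ (wS X (Or.inr rfl) j t.2) : GL D.Idx F) = W g σ (negS D A) (f.J (πe j : Fin f.num)) c := by
    intro j t
    obtain ⟨c, hc, e⟩ := neg_in_parabolic X (π j) (y := θ (wS X (Or.inr rfl) j t.2))
      (by show θ _ ∈ Pi (π j); rw [← hπ]; exact ⟨_, neg_mem_parabolic X j t.2, rfl⟩)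
      ((hV _).2 (W_neg_mem X j))
    exact ⟨⟨c, hc⟩, e⟩
  choose c hc using himg
  have hcinj : ∀ j, Function.Injective (c j) := by
    intro j t u e
    have h1 : θ (wS X (Or.inr rfl) j t.2) = θ (wS X (Or.inr rfl) j u.2) :=
      Subtype.ext (by rw [hc, hc, e])
    exact Subtype.ext (wS_inj X (Or.inr rfl) j (congrArg Subtype.val (θ.injective h1)))
  have hle : ∀ j ∈ (Finset.univ : Finset (Fin f.num)),
      Nat.card {t // Dom σ (f.J (j : Fin f.num)) t} ≤ Nat.card {t // Dom σ (f.J (πe j : Fin f.num)) t} :=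
    fun j _ => Nat.card_le_card_of_injective _ (hcinj j)
  have hcard : ∀ j, Nat.card {t // Dom σ (f.J (πe j : Fin f.num)) t} = Nat.card {t // Dom σ (f.J (j : Fin f.num)) t} :=
    fun j => ((Finset.sum_eq_sum_iff_of_le hle).1
      (πe.sum_comp fun j => Nat.card {t // Dom σ (f.J (j : Fin f.num)) t}).symm j (Finset.mem_univ _)).symm
  have hbij : ∀ j, Function.Bijective (c j) := fun j =>
    (Nat.bijective_iff_injective_and_card _).2 ⟨hcinj j, (hcard j).symm⟩
  have h1 : πe = 1 := by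
    refine R πe hcard fun a b hab t u ht hu => ?_
    obtain ⟨t', et⟩ := (hbij a).2 ⟨t, ht⟩
    obtain ⟨u', eu⟩ := (hbij b).2 ⟨u, hu⟩
    have e1 : Commute (wS X (Or.inr rfl) a t'.2) (wS X (Or.inr rfl) b u'.2) :=
      Subtype.ext (hab _ _ t'.2 u'.2)
    have e2 := congrArg (fun z => (θ z : GL D.Idx F)) e1.eq
    simp only [map_mul, Subgroup.coe_mul, hc, et, eu] at e2
    exact e2
  intro j t ht
  have hj : π j = j := by
    have := congrArg (fun e : Equiv.Perm (Fin f.num) => e j) h1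
    exact this
  obtain ⟨cc, hcc, e⟩ := neg_in_parabolic X (π j) (y := θ (wS X (Or.inr rfl) j ht))
    (by show θ _ ∈ Pi (π j); rw [← hπ]; exact ⟨_, neg_mem_parabolic X j ht, rfl⟩)
    ((hV _).2 (W_neg_mem X j))
  rw [hj] at hcc e
  exact ⟨cc, hcc, e⟩

/-- the parameter maps of an automorphism -/
structure Shape (X : Fam τ sgn σ d T) (θ : MulAut ↥τ.fix) (a a' : Fin f.num → F → F) : Prop where
  pos : ∀ (j : Fin f.num) (t : F) (ht : Dom σ (f.J j) t), Dom σ (f.J j) (a j t) ∧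
    (θ (wS X (Or.inl rfl) j ht) : GL D.Idx F) = W h.good σ D.simple (f.J j) (a j t)
  neg : ∀ (j : Fin f.num) (t : F) (ht : Dom σ (f.J j) t), Dom σ (f.J j) (a' j t) ∧
    (θ (wS X (Or.inr rfl) j ht) : GL D.Idx F) = W h.good σ (negS D A) (f.J j) (a' j t)

/-- every automorphism has a shape and fixes both unipotent parts up to an inner one -/
theorem exists_shape_keeps [Finite F] (X : Fam τ sgn σ d T) (R : Rigid σ h.good f) (θ : MulAut ↥τ.fix) :
    ∃ (x : ↥τ.fix) (a a' : Fin f.num → F → F), Keeps (MulAut.conj x * θ) (D.posUnipotent F) ∧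
      Shape X (MulAut.conj x * θ) a a' := by
  classical
  have g := h.good
  haveI := Fintype.ofFinite F
  haveI : Finite (GL D.Idx F) := finite_GL
  obtain ⟨x, hU, hV⟩ := exists_fix_UV X θ
  set φ := MulAut.conj x * θ
  have hn := exists_neg X R hU hV
  obtain ⟨e₀, he₀, htop, hswap⟩ := X.top
  have hl₀ := X.S.tab.letters e₀ he₀
  have hw₀ := τ.valid.flat_letters hl₀
  set n₀ := nW F g (f.flat e₀.word)
  have hσ₀ := nW_acts (F := F) g hw₀
  have hneg₀ : ∀ r, D.IsPosRoot r → D.IsNegRoot (wf A (f.flat e₀.word) r) := fun r hr => all_neg g hw₀ htop hr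
  set N₀ : ↥τ.fix := ⟨n₀, τ.nFlat_fix hl₀⟩
  set ψ := MulAut.conj N₀⁻¹ * φ * MulAut.conj N₀
  have hψ : ∀ y, ψ y = N₀⁻¹ * φ (N₀ * y * N₀⁻¹) * N₀ := fun y => by simp [ψ, mul_assoc]
  have hUV := longest_conj g hσ₀ hneg₀
  have hVU := longest_conj_back g hσ₀ hneg₀
  have hUm : ∀ y : ↥τ.fix, ((N₀ * y * N₀⁻¹ : ↥τ.fix) : GL D.Idx F) ∈ D.negUnipotent F ↔
      (y : GL D.Idx F) ∈ D.posUnipotent F := fun y => by
    rw [← hUV, Subgroup.mem_map_equiv, MulAut.conj_symm_apply]
    simp [N₀, n₀, mul_assoc]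
  have hVm : ∀ y : ↥τ.fix, ((N₀ * y * N₀⁻¹ : ↥τ.fix) : GL D.Idx F) ∈ D.posUnipotent F ↔
      (y : GL D.Idx F) ∈ D.negUnipotent F := fun y => by
    rw [← hVU, Subgroup.mem_map_equiv, MulAut.conj_symm_apply]
    simp [N₀, n₀, mul_assoc]
  have hn' := exists_neg X R (θ := ψ)
    (fun y => by
      rw [hψ, ← hUm, show N₀ * (N₀⁻¹ * φ (N₀ * y * N₀⁻¹) * N₀) * N₀⁻¹ = φ (N₀ * y * N₀⁻¹) by group, hV, hUm])
    (fun y => by
      rw [hψ, ← hVm, show N₀ * (N₀⁻¹ * φ (N₀ * y * N₀⁻¹) * N₀) * N₀⁻¹ = φ (N₀ * y * N₀⁻¹) by group, hU, hVm])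
  -- the longest element carries the negative orbit elements to the positive ones
  have hsend : ∀ (j : Fin f.num) (t : {t // Dom σ (f.J j) t}), ∃ c : {t // Dom σ (f.J j) t},
      ((N₀ * wS X (Or.inr rfl) j t.2 * N₀⁻¹ : ↥τ.fix) : GL D.Idx F) = W g σ D.simple (f.J j) c := by
    intro j t
    obtain ⟨c, hc, e⟩ := X.cls j j.isLt ((N₀ * wS X (Or.inr rfl) j t.2 * N₀⁻¹ : ↥τ.fix) : GL D.Idx F) (by
      refine Subgroup.mem_inf.2 ⟨?_, (N₀ * wS X (Or.inr rfl) j t.2 * N₀⁻¹).2⟩
      rw [Subgroup.coe_mul, Subgroup.coe_mul, Subgroup.coe_inv]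
      show n₀ * W g σ (negS D A) (f.J j) t * n₀⁻¹ ∈ _
      have key : ∀ (J : List ℕ) y, (∀ k ∈ J, k ∈ f.J j) →
          n₀ * W g σ (negS D A) J y * n₀⁻¹ ∈ UP F g (toNeg D (wf A (f.w j))) := by
        intro J
        induction J with
        | nil => intro y _; rw [W_nil, mul_one, mul_inv_cancel]; exact one_mem _
        | cons k J ih =>
          intro y hk
          rw [W_cons, show n₀ * (xG g (negS D A k) y * W g σ (negS D A) J (σ y)) * n₀⁻¹ =
            n₀ * xG g (negS D A k) y * n₀⁻¹ * (n₀ * W g σ (negS D A) J (σ y) * n₀⁻¹) by group]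
          refine mul_mem ?_ (ih _ fun m hm => hk m (List.mem_cons_of_mem _ hm))
          have hkr := τ.valid.J_lt j j.isLt k (hk k List.mem_cons_self)
          obtain ⟨m, hm, em⟩ := hswap j j.isLt k (hk k List.mem_cons_self)
          obtain ⟨κ, -, eκ⟩ := hσ₀.conj (negS D A k) (g.neg_lt _ (g.simple_lt k hkr))
          rw [eκ, em]
          obtain ⟨h1, h2⟩ := Fold.Valid.simple_mem g τ.valid j.isLt hm
          exact xG_mem_UP g (P := toNeg D (wf A (f.w j))) ⟨h1, isNeg_of_not_pos g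
            (wf_lt g (τ.valid.letters j.isLt) h1.1) h2⟩ _
      exact key _ _ fun k hk => hk)
    exact ⟨⟨c, hc⟩, e.symm⟩
  choose s hs using hsend
  have hsinj : ∀ j, Function.Injective (s j) := by
    intro j t u e
    have h1 : N₀ * wS X (Or.inr rfl) j t.2 * N₀⁻¹ = N₀ * wS X (Or.inr rfl) j u.2 * N₀⁻¹ :=
      Subtype.ext (by rw [hs, hs, e])
    exact Subtype.ext (wS_inj X (Or.inr rfl) j (congrArg Subtype.val (mul_left_cancel (mul_right_cancel h1))))
  have hp : ∀ (j : Fin f.num) (t : F) (ht : Dom σ (f.J j) t), ∃ c, Dom σ (f.J j) c ∧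
      (φ (wS X (Or.inl rfl) j ht) : GL D.Idx F) = W g σ D.simple (f.J j) c := by
    intro j t ht
    obtain ⟨u, eu⟩ := (Finite.injective_iff_surjective.1 (hsinj j)) ⟨t, ht⟩
    have e1 : wS X (Or.inl rfl) j ht = N₀ * wS X (Or.inr rfl) j u.2 * N₀⁻¹ :=
      Subtype.ext (by rw [hs, eu]; rfl)
    obtain ⟨c, hc, e⟩ := hn' j u.1 u.2
    refine ⟨(s j ⟨c, hc⟩).1, (s j ⟨c, hc⟩).2, ?_⟩
    rw [← hs, e1]
    have e2 : ψ (wS X (Or.inr rfl) j u.2) = wS X (Or.inr rfl) j hc := Subtype.ext e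
    rw [hψ] at e2
    rw [← e2]
    simp only [Subgroup.coe_mul, Subgroup.coe_inv]
    group
  choose a ha1 ha2 using hp
  choose b hb1 hb2 using hn
  refine ⟨x, fun j t => if ht : Dom σ (f.J j) t then a j t ht else 0,
    fun j t => if ht : Dom σ (f.J j) t then b j t ht else 0, hU, fun j t ht => ?_, fun j t ht => ?_⟩
  · simp only [dif_pos ht]; exact ⟨ha1 j t ht, ha2 j t ht⟩
  · simp only [dif_pos ht]; exact ⟨hb1 j t ht, hb2 j t ht⟩

/-- **every automorphism has a shape up to an inner one** -/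
theorem exists_shape [Finite F] (X : Fam τ sgn σ d T) (R : Rigid σ h.good f) (θ : MulAut ↥τ.fix) :
    ∃ (x : ↥τ.fix) (a a' : Fin f.num → F → F), Shape X (MulAut.conj x * θ) a a' :=
  (exists_shape_keeps X R θ).imp fun _ ⟨a, a', _, hS⟩ => ⟨a, a', hS⟩

end CfsgLib.Chev.TwOut
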